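import Cfsg.Agent.S0205
import Cfsg.Agent.S0215
import Cfsg.Agent.FGS77.FourPrimes.Tools
import Cfsg.Agent.Lib.Solvable.Schmidt
import Cfsg.Agent.Lib.Transfer.Hall
import Cfsg.Agent.LocalEven61.Involves
import Cfsg.Agent.Signal38.Basic

/-!
# Groups all of whose `p'`-subgroups are nilpotent: the minimal counterexample
-/

set_option autoImplicit false
set_option linter.style.haveILetI false

namespace Cfsg.Agent.PN72

open Subgroup
open scoped Pointwise

universe u

/-- A minimal counterexample. -/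
structure Minimal (p : ℕ) (G : Type*) [Group G] : Prop where
  prime : p.Prime
  three_lt : 3 < p
  nilp : ∀ H : Subgroup G, (Nat.card ↥H).Coprime p → Group.IsNilpotent ↥H
  simple : IsSimpleGroup G
  notSol : ¬ Group.IsSolvable G
  sol : ∀ H : Subgroup G, H ≠ ⊤ → Group.IsSolvable ↥H

theorem commute_of_nilp {G : Type*} [Group G] [Finite G] {J : Subgroup G}
    (hJ : Group.IsNilpotent ↥J) {x y : G} (hx : x ∈ J) (hy : y ∈ J)
    (hco : (orderOf x).Coprime (orderOf y)) : Commute x y :=
  (Transfer.nilpotent_commute_of_coprime hJ (x := ⟨x, hx⟩) (y := ⟨y, hy⟩)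
    (by simpa [Subgroup.orderOf_mk] using hco)).map J.subtype

/-- A quotient of order prime to `p` of a solvable group with nilpotent `p'`-subgroups. -/
theorem nilpotent_image {X Q : Type*} [Group X] [Finite X] [Group Q] {p : ℕ} (hp : p.Prime)
    (hX : Group.IsSolvable X)
    (hn : ∀ H : Subgroup X, (Nat.card ↥H).Coprime p → Group.IsNilpotent ↥H) (f : X →* Q)
    (hf : Function.Surjective f) (hc : (Nat.card Q).Coprime p) : Group.IsNilpotent Q := by
  haveI := hX
  haveI : Finite Q := Finite.of_surjective f hf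
  obtain ⟨J, hJ⟩ := Solvable.exists_isPiHall (G := X) {q | q ≠ p}
  have hJp : (Nat.card ↥J).Coprime p :=
    Nat.Coprime.symm ((hp.coprime_iff_not_dvd).2 fun h => hJ.1 p hp h rfl)
  haveI := hn J hJp
  have htop : J.map f = ⊤ := by
    rw [← index_eq_one]
    by_contra hne
    obtain ⟨q, hq, hqd⟩ := Nat.exists_prime_and_dvd hne
    have h1 : q ∣ J.index := hqd.trans (index_map_dvd J hf)
    have h2 : q = p := by_contra fun hqp => hJ.2 q hq hqp h1
    exact hp.coprime_iff_not_dvd.1 hc.symm ((h2 ▸ hqd).trans (index_dvd_card _))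
  refine Group.nilpotent_of_surjective (f.comp J.subtype) fun y => ?_
  obtain ⟨x, hx, rfl⟩ : y ∈ J.map f := by rw [htop]; trivial
  exact ⟨⟨x, hx⟩, rfl⟩

theorem not_nilpotent_perm_four : ¬ Group.IsNilpotent (Equiv.Perm (Fin 4)) := by
  intro h
  have hs : orderOf (Equiv.swap (0 : Fin 4) 1) = 2 := by
    haveI : Fact (Nat.Prime 2) := ⟨Nat.prime_two⟩
    exact orderOf_eq_prime (by decide) (by decide)
  have hc : orderOf (Equiv.swap (0 : Fin 4) 1 * Equiv.swap 1 2) = 3 := by
    haveI : Fact (Nat.Prime 3) := ⟨Nat.prime_three⟩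
    exact orderOf_eq_prime (by decide) (by decide)
  have := Transfer.nilpotent_commute_of_coprime h
    (x := Equiv.swap (0 : Fin 4) 1) (y := Equiv.swap (0 : Fin 4) 1 * Equiv.swap 1 2)
    (by rw [hs, hc]; norm_num)
  revert this
  unfold Commute SemiconjBy
  decide

variable {G : Type*} [Group G] [Finite G] {p : ℕ}

theorem Minimal.p_ne_two (hM : Minimal p G) : p ≠ 2 := by
  have := hM.three_lt; omega

theorem Minimal.two_dvd (hM : Minimal p G) : 2 ∣ Nat.card G := by
  by_contra h
  exact hM.notSol (S0205.result (Nat.not_even_iff_odd.1 fun he => h he.two_dvd))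

theorem Minimal.not_isPGroup (hM : Minimal p G) {q : ℕ} (hq : q.Prime) : ¬ IsPGroup q G :=
  fun h => hM.notSol (by
    haveI := Fact.mk hq
    haveI := h.isNilpotent
    exact inferInstance)

theorem Minimal.center_eq_bot (hM : Minimal p G) : center G = ⊥ := by
  haveI := hM.simple
  refine (Normal.eq_bot_or_eq_top (H := center G) inferInstance).resolve_right fun h => hM.notSol ?_
  exact isSolvable_of_comm fun a b => (Subgroup.mem_center_iff.1 (h ▸ mem_top b) a)

theorem Minimal.centralizer_ne_top (hM : Minimal p G) {x : G} (hx : x ≠ 1) :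
    centralizer ({x} : Set G) ≠ ⊤ := by
  intro h
  refine hx ((Subgroup.mem_bot).1 (hM.center_eq_bot ▸ ?_))
  exact Subgroup.mem_center_iff.2 fun g =>
    mem_centralizer_singleton_iff.1 (h ▸ mem_top g : g ∈ centralizer ({x} : Set G))

theorem Minimal.normalizer_ne_top (hM : Minimal p G) {K : Subgroup G} (h1 : K ≠ ⊥) (h2 : K ≠ ⊤) :
    normalizer (K : Set G) ≠ ⊤ := fun h => by
  haveI := hM.simple
  haveI : K.Normal := normalizer_eq_top_iff.1 h
  exact (Normal.eq_bot_or_eq_top (H := K) inferInstance).elim h1 h2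

theorem Minimal.pgroup_ne_top (hM : Minimal p G) {q : ℕ} (hq : q.Prime) {K : Subgroup G}
    (hK : IsPGroup q ↥K) : K ≠ ⊤ := fun h =>
  hM.not_isPGroup hq (by subst h; exact hK.of_equiv Subgroup.topEquiv)

theorem Minimal.nilp_sub (hM : Minimal p G) (X : Subgroup G) (H : Subgroup ↥X)
    (hH : (Nat.card ↥H).Coprime p) : Group.IsNilpotent ↥H := by
  have e := H.equivMapOfInjective X.subtype X.subtype_injective
  haveI := hM.nilp (H.map X.subtype) (by rwa [← Nat.card_congr e.toEquiv])
  exact Group.nilpotent_of_mulEquiv e.symm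

theorem Minimal.free (hM : Minimal p G) : ¬ Cfsg.Involves (Equiv.Perm (Fin 4)) G := by
  rintro ⟨K, R, hR, ⟨e⟩⟩
  have hp := hM.prime
  have hc4 : Nat.card (Equiv.Perm (Fin 4)) = 24 := by
    rw [Nat.card_perm, Nat.card_fin]; rfl
  have hcop : (Nat.card (Equiv.Perm (Fin 4))).Coprime p := by
    rw [hc4]
    refine Nat.Coprime.symm (hp.coprime_iff_not_dvd.2 fun h => ?_)
    have h' : p ∣ 2 ^ 3 * 3 := h
    rcases hp.dvd_mul.1 h' with h | h
    · have := Nat.le_of_dvd two_pos (hp.dvd_of_dvd_pow h); have := hM.three_lt; omega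
    · have := Nat.le_of_dvd (by norm_num) h; have := hM.three_lt; omega
  let f := e.toMonoidHom.comp (QuotientGroup.mk' (R.subgroupOf K))
  have hf : Function.Surjective f := e.surjective.comp (QuotientGroup.mk'_surjective _)
  by_cases hK : K = ⊤
  · subst hK
    haveI := hM.simple
    haveI : IsSimpleGroup ↥(⊤ : Subgroup G) := Subgroup.topEquiv.isSimpleGroup
    rcases Normal.eq_bot_or_eq_top (H := f.ker) inferInstance with h | h
    · have hinj : Function.Injective f := (MonoidHom.ker_eq_bot_iff f).1 h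
      haveI := hM.nilp ⊤ (by rwa [Nat.card_congr (Equiv.ofBijective f ⟨hinj, hf⟩)])
      exact not_nilpotent_perm_four (Group.nilpotent_of_surjective f hf)
    · obtain ⟨a, ha⟩ := hf (Equiv.swap 0 1)
      have : f a = 1 := (h ▸ mem_top a : a ∈ f.ker)
      rw [this] at ha
      exact absurd ha (by decide)
  · exact not_nilpotent_perm_four
      (nilpotent_image hp (hM.sol K hK) (hM.nilp_sub K) f hf hcop)

/-- An element of odd order inverted by an involution is a `p`-element. -/
theorem Minimal.real_isP (hM : Minimal p G) {u x : G} (hu : orderOf u = 2)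
    (hinv : u * x * u⁻¹ = x⁻¹) (hodd : Odd (orderOf x)) : ∃ k, orderOf x = p ^ k := by
  refine ⟨_, Nat.eq_prime_pow_of_unique_prime_dvd (orderOf_pos x).ne' fun {q} hq hqd => ?_⟩
  by_contra hqp
  obtain ⟨m, hm⟩ := hqd
  have hm0 : m ≠ 0 := fun h => (orderOf_pos x).ne' (by rw [hm, h, mul_zero])
  set y := x ^ m with hy
  have hyq : orderOf y = q := by
    rw [hy, orderOf_pow' x hm0, hm, Nat.gcd_eq_right (dvd_mul_left m q),
      Nat.mul_div_cancel _ (Nat.pos_of_ne_zero hm0)]
  have hyinv : u * y * u⁻¹ = y⁻¹ := by rw [hy, ← conj_pow, hinv, inv_pow]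
  have hq2 : q ≠ 2 := by
    rintro rfl
    exact Nat.not_even_iff_odd.2 hodd (hm ▸ even_two.mul_right m)
  have hn : zpowers u ≤ normalizer (zpowers y : Set G) := by
    rw [zpowers_le]
    refine mem_normalizer_iff.2 fun z => ⟨?_, fun h => ?_⟩
    · rintro ⟨i, rfl⟩
      rw [← conj_zpow, hyinv]
      exact zpow_mem (inv_mem (mem_zpowers y)) i
    · obtain ⟨i, hi⟩ := h
      have hz : z = u⁻¹ * y ^ i * u := by
        have hi' : y ^ i = u * z * u⁻¹ := hi
        rw [hi']; group
      have hui : u⁻¹ = u := inv_eq_of_mul_eq_one_right (by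
        rw [← sq, ← hu, pow_orderOf_eq_one])
      rw [hz, show u⁻¹ * y ^ i * u = u * y ^ i * u⁻¹ by rw [hui]]
      rw [← conj_zpow, hyinv]
      exact zpow_mem (inv_mem (mem_zpowers y)) i
  have hcard : Nat.card ↥(zpowers u ⊔ zpowers y : Subgroup G) ∣ 2 * q := by
    rw [← hu, ← hyq, ← Nat.card_zpowers, ← Nat.card_zpowers,
      mul_comm, sup_comm, ← Thompson.card_sup_mul_card_inf hn]
    exact Dvd.intro _ rfl
  have hco : (Nat.card ↥(zpowers u ⊔ zpowers y : Subgroup G)).Coprime p :=
    (Nat.Coprime.mul_left ((Nat.coprime_primes Nat.prime_two hM.prime).2 hM.p_ne_two.symm)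
      ((Nat.coprime_primes hq hM.prime).2 hqp)).coprime_dvd_left hcard
  have hc := commute_of_nilp (hM.nilp _ hco) (mem_sup_left (mem_zpowers u))
    (mem_sup_right (mem_zpowers y)) (by rw [hu, hyq]; exact (Nat.coprime_primes Nat.prime_two hq).2 hq2.symm)
  rw [hc.eq, mul_inv_cancel_right] at hyinv
  have h2 : y ^ 2 = 1 := by rw [sq]; exact eq_inv_iff_mul_eq_one.1 hyinv
  have hd := orderOf_dvd_of_pow_eq_one h2
  rw [hyq] at hd
  exact hq2 ((Nat.prime_dvd_prime_iff_eq hq Nat.prime_two).1 hd)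

/-- In a proper subgroup the class of an involution central in a Sylow 2-subgroup is a power of `p`. -/
theorem Minimal.class_ppow (hM : Minimal p G) {X : Subgroup G} (hX : X ≠ ⊤) (T : Sylow 2 ↥X)
    {u : ↥X} (hu : orderOf u = 2) (huT : u ∈ (T : Subgroup ↥X))
    (hc : ∀ s ∈ (T : Subgroup ↥X), Commute u s) :
    ∃ k, (centralizer ({u} : Set ↥X)).index = p ^ k := by
  haveI := hM.sol X hX
  haveI : Fact (Nat.Prime 2) := ⟨Nat.prime_two⟩
  have hp := hM.prime
  obtain ⟨J, hJ, hTJ⟩ := Solvable.exists_isPiHall_ge (π := {q | q ≠ p}) (T : Subgroup ↥X)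
    fun q hq hd => by
      obtain ⟨n, hn⟩ := IsPGroup.iff_card.1 T.isPGroup'
      rw [hn] at hd
      have := (Nat.prime_dvd_prime_iff_eq hq Nat.prime_two).1 (hq.dvd_of_dvd_pow hd)
      exact fun h => hM.p_ne_two (h.symm.trans this)
  have hJn : Group.IsNilpotent ↥J :=
    hM.nilp_sub X J (Nat.Coprime.symm (hp.coprime_iff_not_dvd.2 fun h => hJ.1 p hp h rfl))
  have hJC : J ≤ centralizer ({u} : Set ↥X) := by
    set C := (centralizer ({u} : Set ↥X)).subgroupOf J with hC
    rw [← subgroupOf_eq_top, ← hC, ← index_eq_one]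
    by_contra hne
    obtain ⟨q, hq, hqd⟩ := Nat.exists_prime_and_dvd hne
    haveI := Fact.mk hq
    obtain ⟨Q⟩ := (inferInstance : Nonempty (Sylow q ↥J))
    by_cases hq2 : q = 2
    · subst hq2
      have h1 : (T : Subgroup ↥X).subgroupOf J ≤ C := fun s hs =>
        mem_centralizer_singleton_iff.2 (hc s hs).eq.symm
      exact T.not_dvd_index (hqd.trans ((index_dvd_of_le h1).trans
        (relIndex_dvd_index_of_le hTJ)))
    · have h1 : (Q : Subgroup ↥J) ≤ C := fun s hs => by
        obtain ⟨j, hj⟩ := IsPGroup.iff_orderOf.1 Q.isPGroup' ⟨s, hs⟩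
        rw [Subgroup.orderOf_mk] at hj
        refine mem_centralizer_singleton_iff.2 (commute_of_nilp hJn s.2 (hTJ huT) ?_).eq
        rw [hu, Subgroup.orderOf_coe, hj]
        exact ((Nat.coprime_primes hq Nat.prime_two).2 hq2).pow_left j
      exact Q.not_dvd_index (hqd.trans (index_dvd_of_le h1))
  refine ⟨_, Nat.eq_prime_pow_of_unique_prime_dvd index_ne_zero_of_finite fun {q} hq hd => ?_⟩
  exact by_contra fun hqp => hJ.2 q hq hqp (hd.trans (index_dvd_of_le hJC))

/-- An involution isolated in a Sylow 2-subgroup cannot occur. -/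
theorem Minimal.not_isolated (hM : Minimal p G) (P : Sylow 2 G) {u : G} (hu : orderOf u = 2)
    (huP : u ∈ P) (hiso : ∀ g : G, g * u * g⁻¹ ∈ P → g * u * g⁻¹ = u) : False := by
  obtain ⟨N, hN, hodd, hc⟩ := S0215.result P u hu huP hiso
  haveI := hM.simple
  rcases Normal.eq_bot_or_eq_top (H := N) hN with h | h
  · refine hM.centralizer_ne_top (x := u) (fun h1 => ?_) (eq_top_iff.2 fun g _ => ?_)
    · rw [h1, orderOf_one] at hu; omega
    · have h1 : u * g * u⁻¹ * g⁻¹ = 1 := Subgroup.mem_bot.1 (h ▸ hc g)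
      rw [mul_inv_eq_one, mul_inv_eq_iff_eq_mul] at h1
      exact mem_centralizer_singleton_iff.2 h1.symm
  · rw [h, Subgroup.card_top] at hodd
    exact Nat.not_even_iff_odd.2 hodd (even_iff_two_dvd.2 hM.two_dvd)

/-- Odd core one and solvable gives characteristic 2. -/
theorem charTwo_of_core {X : Type*} [Group X] [Finite X] (hX : Group.IsSolvable X)
    (hO : Cfsg.pPrimeCore 2 X = ⊥) : Cfsg.IsOfCharacteristicTwo X := by
  haveI : Fact (Nat.Prime 2) := ⟨Nat.prime_two⟩
  have hF : Cfsg.generalizedFittingSubgroup X = Cfsg.pCore 2 X := by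
    rw [Components.generalizedFitting_eq_fitting_of_isSolvable hX,
      Components.fitting_eq_pCore_of_pPrimeCore_eq_bot hO]
  have := Components.centralizer_generalizedFitting_le (G := X)
  rwa [hF] at this

end Cfsg.Agent.PN72
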