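import Cfsg.Agent.PN72.Basic
import Cfsg.Agent.FG72.S4Free.Unique
import Cfsg.Agent.TwoFusionB.StronglyEmbedded

/-!
# The minimal counterexample has no strongly embedded subgroup
-/

set_option autoImplicit false
set_option linter.style.haveILetI false

namespace Cfsg.Agent.PN72

open Subgroup MulAction

variable {G : Type*} [Group G] [Finite G] {p : ℕ} {H : Subgroup G}

theorem inv_conj_inv {u : G} (hu : orderOf u = 2) (d : G) : u * d * u = u * d * u⁻¹ := by
  rw [TwoFusionB.inv_eq_of_inv hu]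

/-- A 2-element fixing two cosets is trivial. -/
theorem two_elem_fix (hH : Cfsg.IsStronglyEmbedded H) {d : G} {x y : G ⧸ H} (hxy : x ≠ y)
    (hx : d • x = x) (hy : d • y = y) : Odd (orderOf d) := by
  by_contra hcon
  rw [Nat.not_odd_iff_even] at hcon
  obtain ⟨j, hj⟩ := hcon.two_dvd
  have hpos : 0 < j := by have := orderOf_pos d; omega
  have hc : orderOf (d ^ j) = 2 := by
    rw [orderOf_pow' d hpos.ne', hj, Nat.gcd_eq_right (dvd_mul_left j 2),
      Nat.mul_div_cancel _ hpos]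
  exact hxy (TwoFusionB.fix_unique hH hc
    ((stabilizer G x).pow_mem (mem_stabilizer_iff.2 hx) j)
    ((stabilizer G y).pow_mem (mem_stabilizer_iff.2 hy) j))

/-- Elements commuting with an involution fix its fixed coset. -/
theorem comm_fix (hH : Cfsg.IsStronglyEmbedded H) {a c : G} (ha : orderOf a = 2) {z : G ⧸ H}
    (hz : a • z = z) (hc : Commute a c) : c • z = z :=
  TwoFusionB.fix_unique hH ha (by rw [smul_smul, hc.eq, ← smul_smul, hz]) hz

/-- A proper subgroup containing two commuting involutions fixes their fixed coset. -/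
theorem solvable_le (hM : Minimal p G) (hH : Cfsg.IsStronglyEmbedded H) {X : Subgroup G}
    (hX : X ≠ ⊤) {a b : G} (haX : a ∈ X) (hbX : b ∈ X) (ha : orderOf a = 2) (hb : orderOf b = 2)
    (hne : a ≠ b) (hab : Commute a b) {z : G ⧸ H} (hz : a • z = z) :
    ∀ x ∈ X, x • z = z := by
  haveI : Fact (Nat.Prime 2) := ⟨Nat.prime_two⟩
  haveI := hM.sol X hX
  have hbz : b • z = z := comm_fix hH ha hz hab
  set O := Cfsg.pPrimeCore 2 ↥X with hO
  have hWn : X ≤ normalizer ((O.map X.subtype : Subgroup G) : Set G) :=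
    S4Free.le_normalizer_map_subtype O inferInstance
  have hWH : O.map X.subtype ≤ stabilizer G z := by
    refine FGS77.FourPrimes.le_of_lines Nat.prime_two hab ha hb ?_ (hWn haX) (hWn hbX) ?_ ?_ ?_
    · intro h
      obtain ⟨i, hi⟩ := h
      have hi' : a ^ i = b := hi
      rcases Int.even_or_odd i with ⟨j, rfl⟩ | ⟨j, rfl⟩
      · rw [← two_mul, zpow_mul, zpow_two, TwoFusionB.sq_eq_one_of_inv ha, one_zpow] at hi'
        exact TwoFusionB.ne_one_of_inv hb hi'.symm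
      · rw [zpow_add, zpow_mul, zpow_two, TwoFusionB.sq_eq_one_of_inv ha, one_zpow, one_mul,
          zpow_one] at hi'
        exact hne hi'
    · exact fun h => (Thompson.not_dvd_card_pPrimeCore (p := 2) (G := ↥X))
        (h.trans (Subgroup.card_map_dvd _ _))
    · exact fun w _ hw => comm_fix hH hb hbz hw
    · intro i w _ hw
      rcases Nat.even_or_odd i with ⟨j, rfl⟩ | ⟨j, rfl⟩
      · rw [← two_mul, pow_mul, pow_two, TwoFusionB.sq_eq_one_of_inv hb, one_pow, mul_one] at hw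
        exact comm_fix hH ha hz hw
      · rw [pow_succ, pow_mul, pow_two, TwoFusionB.sq_eq_one_of_inv hb, one_pow, one_mul] at hw
        have hab2 : orderOf (a * b) = 2 := by
          refine orderOf_eq_prime ?_ fun h => hne ?_
          · rw [hab.mul_pow, pow_two, pow_two, TwoFusionB.sq_eq_one_of_inv ha,
              TwoFusionB.sq_eq_one_of_inv hb, one_mul]
          · rw [mul_eq_one_iff_eq_inv, TwoFusionB.inv_eq_of_inv hb] at h
            exact h
        exact comm_fix hH hab2 (by rw [mul_smul, hbz, hz]) hw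
  set q := QuotientGroup.mk' O with hq
  haveI : Group.IsSolvable (↥X ⧸ O) :=
    Group.isSolvable_of_surjective (QuotientGroup.mk'_surjective O)
  have haO : (⟨a, haX⟩ : ↥X) ∉ O := fun h => by
    refine (Thompson.not_dvd_card_pPrimeCore (p := 2) (G := ↥X)) ?_
    have := orderOf_dvd_natCard (⟨_, h⟩ : ↥O)
    rwa [Subgroup.orderOf_mk, Subgroup.orderOf_mk, ha] at this
  have hchar : Cfsg.IsOfCharacteristicTwo (↥X ⧸ O) :=
    charTwo_of_core inferInstance Thompson.pPrimeCore_quotient_pPrimeCore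
  have hQne : Cfsg.pCore 2 (↥X ⧸ O) ≠ ⊥ := by
    intro h
    have h1 : q ⟨a, haX⟩ ∈ centralizer (Cfsg.pCore 2 (↥X ⧸ O) : Set (↥X ⧸ O)) :=
      mem_centralizer_iff.2 fun c hc => by
        rw [h] at hc
        rw [Subgroup.mem_bot.1 hc, one_mul, mul_one]
    have h2 := hchar h1
    rw [h, Subgroup.mem_bot] at h2
    exact haO ((QuotientGroup.eq_one_iff _).1 h2)
  obtain ⟨T, hT⟩ := ((IsPGroup.of_card (n := 1) (by rw [Nat.card_zpowers, Subgroup.orderOf_mk, ha,
    pow_one])) : IsPGroup 2 ↥(zpowers (⟨a, haX⟩ : ↥X))).exists_le_sylow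
  have haT : (⟨a, haX⟩ : ↥X) ∈ (T : Subgroup ↥X) := hT (mem_zpowers _)
  haveI : Nontrivial ↥(T : Subgroup ↥X) :=
    ⟨⟨_, haT⟩, 1, fun h => haO (by
      have := congrArg Subtype.val h
      simp only [OneMemClass.coe_one] at this
      rw [this]; exact O.one_mem)⟩
  obtain ⟨c, hc⟩ := exists_prime_orderOf_dvd_card' (G := ↥(center ↥(T : Subgroup ↥X))) 2
    (PGroup.dvd_card_center T.isPGroup')
  have hc2 : orderOf (((c : ↥(T : Subgroup ↥X)) : ↥X) : G) = 2 := by
    rw [Subgroup.orderOf_coe, Subgroup.orderOf_coe, Subgroup.orderOf_coe, hc]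
  have hTz : ∀ s ∈ (T : Subgroup ↥X), (s : G) • z = z := by
    intro s hs
    have hcomm : ∀ r ∈ (T : Subgroup ↥X), Commute (((c : ↥(T : Subgroup ↥X)) : ↥X) : G) r := by
      intro r hr
      exact ((congrArg (fun w : ↥(T : Subgroup ↥X) => ((w : ↥X) : G))
        (Subgroup.mem_center_iff.1 c.2 ⟨r, hr⟩)).symm : _)
    have hcz : (((c : ↥(T : Subgroup ↥X)) : ↥X) : G) • z = z :=
      comm_fix hH ha hz (hcomm _ haT).symm
    exact comm_fix hH hc2 hcz (hcomm s hs)
  set Y := (Cfsg.pCore 2 (↥X ⧸ O)).comap q with hY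
  have hYz : ∀ y ∈ Y, (y : G) • z = z := by
    intro y hy
    obtain ⟨s, hs, hsy⟩ := Thompson.pCore_le_sylow
      (T.mapSurjective (QuotientGroup.mk'_surjective O)) hy
    have hmem : s⁻¹ * y ∈ O := QuotientGroup.eq.1 hsy
    have h2 : ((s⁻¹ * y : ↥X) : G) • z = z := hWH ⟨_, hmem, rfl⟩
    have h3 : (y : G) = (s : G) * ((s⁻¹ * y : ↥X) : G) := by simp
    rw [h3, mul_smul, h2, hTz s hs]
  obtain ⟨d, hd⟩ := exists_prime_orderOf_dvd_card' (G := ↥(Cfsg.pCore 2 (↥X ⧸ O))) 2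
    (PGroup.dvd_card_of_ne_bot (H := (⊤ : Subgroup ↥(Cfsg.pCore 2 (↥X ⧸ O))))
      Thompson.isPGroup_pCore (fun h => hQne (by
        rw [eq_bot_iff]
        intro w hw
        have h5 : (⟨w, hw⟩ : ↥(Cfsg.pCore 2 (↥X ⧸ O))) ∈ (⊥ : Subgroup _) := h ▸ mem_top _
        exact Subgroup.mem_bot.2 (congrArg Subtype.val (Subgroup.mem_bot.1 h5)))) |>.trans
      (by rw [Subgroup.card_top]))
  have h2Y : 2 ∣ Nat.card ↥Y := by
    have h1 : (Cfsg.pCore 2 (↥X ⧸ O)) = Y.map q := by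
      rw [hY, map_comap_eq_self_of_surjective (QuotientGroup.mk'_surjective O)]
    refine dvd_trans ?_ (Subgroup.card_map_dvd Y q)
    rw [← h1]
    have := orderOf_dvd_natCard d
    rwa [hd] at this
  obtain ⟨e, he⟩ := exists_prime_orderOf_dvd_card' (G := ↥Y) 2 h2Y
  have he2 : orderOf ((e : ↥X) : G) = 2 := by rw [Subgroup.orderOf_coe, Subgroup.orderOf_coe, he]
  intro x hx
  haveI : Y.Normal := inferInstanceAs ((Cfsg.pCore 2 (↥X ⧸ O)).comap q).Normal
  have h1 := hYz _ ((inferInstance : Y.Normal).conj_mem (e : ↥X) e.2 ⟨x, hx⟩⁻¹)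
  simp only [inv_inv, Subgroup.coe_mul, InvMemClass.coe_inv] at h1
  rw [mul_smul, mul_smul, inv_smul_eq_iff] at h1
  exact TwoFusionB.fix_unique hH he2 h1 (hYz _ e.2)

/-- `H` contains two commuting involutions. -/
theorem exists_pair (hM : Minimal p G) (hH : Cfsg.IsStronglyEmbedded H) :
    ∃ a ∈ H, ∃ b ∈ H, orderOf a = 2 ∧ orderOf b = 2 ∧ a ≠ b ∧ Commute a b := by
  haveI : Fact (Nat.Prime 2) := ⟨Nat.prime_two⟩
  obtain ⟨P⟩ := (inferInstance : Nonempty (Sylow 2 G))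
  haveI : Nontrivial ↥(P : Subgroup G) := Finite.one_lt_card_iff_nontrivial.1
    (lt_of_lt_of_le one_lt_two (Nat.le_of_dvd Nat.card_pos (P.dvd_card_of_dvd_card hM.two_dvd)))
  obtain ⟨c, hc⟩ := exists_prime_orderOf_dvd_card' (G := ↥(center ↥(P : Subgroup G))) 2
    (PGroup.dvd_card_center P.isPGroup')
  set z := ((c : ↥(P : Subgroup G)) : G) with hzdef
  have hz : orderOf z = 2 := by rw [hzdef, Subgroup.orderOf_coe, Subgroup.orderOf_coe, hc]
  obtain ⟨s, hs, hs2, hsz⟩ : ∃ s ∈ (P : Subgroup G), orderOf s = 2 ∧ s ≠ z := by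
    by_contra hcon
    push Not at hcon
    refine hM.not_isolated P hz (c : ↥(P : Subgroup G)).2 fun g hg => ?_
    exact hcon _ hg (by rw [TwoFusionB.orderOf_conj_eq, hz])
  have hcomm : Commute z s := ((congrArg Subtype.val
    (Subgroup.mem_center_iff.1 c.2 ⟨s, hs⟩)).symm : _)
  obtain ⟨x, hx⟩ := TwoFusionB.exists_fix hH hz
  have hsx : s • x = x := comm_fix hH hz hx hcomm
  obtain ⟨g, rfl⟩ := QuotientGroup.mk_surjective x
  refine ⟨g⁻¹ * z * g, TwoFusionB.smul_mk_eq_iff.1 hx, g⁻¹ * s * g,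
    TwoFusionB.smul_mk_eq_iff.1 hsx, ?_, ?_, ?_, ?_⟩
  · have := TwoFusionB.orderOf_conj_eq g⁻¹ z
    rwa [inv_inv, hz] at this
  · have := TwoFusionB.orderOf_conj_eq g⁻¹ s
    rwa [inv_inv, hs2] at this
  · intro h
    exact hsz (mul_left_cancel (mul_right_cancel h)).symm
  · have := hcomm.map (MulAut.conj g⁻¹).toMonoidHom
    simpa using this

theorem conj_in (hH : Cfsg.IsStronglyEmbedded H) {v w : G} (hv : orderOf v = 2) (hvH : v ∈ H)
    (hw : orderOf w = 2) (hwH : w ∈ H) : ∃ d ∈ H, d * v * d⁻¹ = w := by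
  obtain ⟨x, hx⟩ := TwoFusionB.exists_ne_coset hH (QuotientGroup.mk 1 : G ⧸ H)
  obtain ⟨d, -, hd, hdc⟩ := TwoFusionB.exists_conj_fix hH hx.symm hv
    (TwoFusionB.smul_one_eq_iff.2 hvH) hw (TwoFusionB.smul_one_eq_iff.2 hwH)
  exact ⟨d, TwoFusionB.smul_one_eq_iff.1 hd, hdc⟩

/-- No involution of `H` normalizes a Sylow `p`-subgroup of `H`. -/
theorem no_norm (hM : Minimal p G) (hH : Cfsg.IsStronglyEmbedded H) (P : Sylow p ↥H) {v : ↥H}
    (hv : orderOf v = 2) (hvP : v ∈ normalizer ((P : Subgroup ↥H) : Set ↥H)) : False := by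
  haveI : Fact (Nat.Prime 2) := ⟨Nat.prime_two⟩
  haveI := Fact.mk hM.prime
  have hvG : orderOf (v : G) = 2 := by rw [Subgroup.orderOf_coe, hv]
  obtain ⟨a, haH, b, hbH, ha, hb, hne, hab⟩ := exists_pair hM hH
  obtain ⟨k0, hk0, hk0v⟩ := conj_in hH ha haH hvG v.2
  -- the class of `v` has `p`-power length
  obtain ⟨T⟩ := (inferInstance : Nonempty (Sylow 2 ↥H))
  haveI : Nontrivial ↥(T : Subgroup ↥H) := Finite.one_lt_card_iff_nontrivial.1
    (lt_of_lt_of_le one_lt_two (Nat.le_of_dvd Nat.card_pos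
      (T.dvd_card_of_dvd_card (even_iff_two_dvd.1 hH.2.1))))
  obtain ⟨c, hc⟩ := exists_prime_orderOf_dvd_card' (G := ↥(center ↥(T : Subgroup ↥H))) 2
    (PGroup.dvd_card_center T.isPGroup')
  set z := ((c : ↥(T : Subgroup ↥H)) : ↥H) with hzdef
  have hz : orderOf z = 2 := by rw [hzdef, Subgroup.orderOf_coe, Subgroup.orderOf_coe, hc]
  obtain ⟨k, hk⟩ := hM.class_ppow hH.1 T hz (c : ↥(T : Subgroup ↥H)).2 fun s hs =>
    ((congrArg Subtype.val (Subgroup.mem_center_iff.1 c.2 ⟨s, hs⟩)).symm : _)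
  obtain ⟨d, hd, hdz⟩ := conj_in hH (by rw [Subgroup.orderOf_coe, hz]) z.2 hvG v.2
  set C := centralizer ({v} : Set ↥H) with hC
  have hCk : C.index = p ^ k := by
    rw [← hk]
    have hmap : C = (centralizer ({z} : Set ↥H)).map (MulAut.conj (⟨d, hd⟩ : ↥H)).toMonoidHom := by
      ext w
      rw [Subgroup.mem_map_equiv, hC, mem_centralizer_singleton_iff, mem_centralizer_singleton_iff]
      have hv' : v = ⟨d, hd⟩ * z * (⟨d, hd⟩ : ↥H)⁻¹ := Subtype.ext hdz.symm
      subst hv'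
      rw [MulAut.conj_symm_apply]
      constructor
      · intro h
        have := congrArg (fun x => (⟨d, hd⟩ : ↥H)⁻¹ * x * ⟨d, hd⟩) h
        simpa [mul_assoc] using this
      · intro h
        have := congrArg (fun x => (⟨d, hd⟩ : ↥H) * x * (⟨d, hd⟩ : ↥H)⁻¹) h
        simpa [mul_assoc] using this
    rw [hmap]
    exact index_map_equiv _ (MulAut.conj (⟨d, hd⟩ : ↥H))
  -- the Sylow subgroup is transitive on the cosets of the centralizer
  have horb : MulAction.orbit ↥(P : Subgroup ↥H) (QuotientGroup.mk 1 : ↥H ⧸ C) = Set.univ := by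
    refine Set.eq_univ_of_forall ?_
    have hstab : MulAction.stabilizer ↥(P : Subgroup ↥H) (QuotientGroup.mk 1 : ↥H ⧸ C) =
        C.subgroupOf (P : Subgroup ↥H) := by
      ext w
      rw [mem_stabilizer_iff, mem_subgroupOf]
      exact TwoFusionB.smul_one_eq_iff
    have h1 : Nat.card (MulAction.orbit ↥(P : Subgroup ↥H) (QuotientGroup.mk 1 : ↥H ⧸ C)) =
        C.relIndex (P : Subgroup ↥H) := by
      rw [Nat.card_coe_set_eq, ← index_stabilizer, hstab]
      rfl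
    have h2 : C.index ≤ C.relIndex (P : Subgroup ↥H) := by
      have hPC : C.relIndex (P : Subgroup ↥H) * Nat.card ↥(C ⊓ (P : Subgroup ↥H)) =
          Nat.card ↥(P : Subgroup ↥H) := by
        rw [← inf_relIndex_right, ← relIndex_bot_left, ← relIndex_bot_left, mul_comm,
          relIndex_mul_relIndex _ _ _ bot_le inf_le_right]
      obtain ⟨n, hn⟩ := IsPGroup.iff_card.1
        (P.isPGroup'.to_le (inf_le_right : C ⊓ (P : Subgroup ↥H) ≤ _))
      have h4 : p ^ n * p ^ k ∣ Nat.card ↥H := by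
        rw [← C.card_mul_index, hCk, ← hn]
        exact Nat.mul_dvd_mul_right (card_dvd_of_le inf_le_left) _
      rw [← pow_add] at h4
      have h5 := P.pow_dvd_card_of_pow_dvd_card h4
      rw [← hPC, hn, pow_add, mul_comm (C.relIndex _)] at h5
      rw [hCk]
      exact Nat.le_of_dvd (Nat.pos_of_ne_zero index_ne_zero_of_finite)
        (Nat.dvd_of_mul_dvd_mul_left (pow_pos hM.prime.pos n) h5)
    intro w
    by_contra hw
    have h3 : Nat.card (MulAction.orbit ↥(P : Subgroup ↥H) (QuotientGroup.mk 1 : ↥H ⧸ C)) <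
        Nat.card (↥H ⧸ C) := Finite.card_subtype_lt hw
    rw [h1] at h3
    exact absurd h3 (not_lt.2 (h2 : Nat.card (↥H ⧸ C) ≤ _))
  -- another involution commuting with `v` is a translate of `v` by an element of `P`
  set w0 : ↥H := ⟨k0 * b * k0⁻¹, mul_mem (mul_mem hk0 hbH) (inv_mem hk0)⟩ with hw0def
  have hw0 : orderOf w0 = 2 := by
    rw [← Subgroup.orderOf_coe, hw0def, TwoFusionB.orderOf_conj_eq, hb]
  have hw0v : w0 ≠ v := fun h => hne (by
    have h' : k0 * b * k0⁻¹ = k0 * a * k0⁻¹ := (congrArg Subtype.val h).trans hk0v.symm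
    exact (mul_left_cancel (mul_right_cancel h')).symm)
  have hcomm : Commute v w0 := by
    refine Subtype.ext ?_
    show (v : G) * (k0 * b * k0⁻¹) = k0 * b * k0⁻¹ * v
    rw [← hk0v]
    calc k0 * a * k0⁻¹ * (k0 * b * k0⁻¹) = k0 * (a * b) * k0⁻¹ := by group
      _ = k0 * (b * a) * k0⁻¹ := by rw [hab.eq]
      _ = _ := by group
  obtain ⟨e, he, hev⟩ := conj_in hH hvG v.2 (by rw [Subgroup.orderOf_coe, hw0]) w0.2
  obtain ⟨π, hπ⟩ := horb.ge (Set.mem_univ (QuotientGroup.mk (⟨e, he⟩ : ↥H) : ↥H ⧸ C))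
  have hπ' : (π : ↥H)⁻¹ * ⟨e, he⟩ ∈ C := by
    refine QuotientGroup.eq.1 ?_
    rw [← hπ]
    exact congrArg QuotientGroup.mk (mul_one (π : ↥H)).symm
  have hw : w0 = (π : ↥H) * v * (π : ↥H)⁻¹ := by
    have h1 := mem_centralizer_singleton_iff.1 hπ'
    have h2 : w0 = (⟨e, he⟩ : ↥H) * v * (⟨e, he⟩ : ↥H)⁻¹ := Subtype.ext hev.symm
    rw [h2, show (⟨e, he⟩ : ↥H) = (π : ↥H) * ((π : ↥H)⁻¹ * ⟨e, he⟩) by group]
    rw [show (π : ↥H) * ((π : ↥H)⁻¹ * ⟨e, he⟩) * v * ((π : ↥H) * ((π : ↥H)⁻¹ * ⟨e, he⟩))⁻¹ =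
      (π : ↥H) * (((π : ↥H)⁻¹ * ⟨e, he⟩) * v * ((π : ↥H)⁻¹ * ⟨e, he⟩)⁻¹) * (π : ↥H)⁻¹ by group,
      h1, mul_inv_cancel_right]
  have hmem : v * w0 ∈ (P : Subgroup ↥H) := by
    rw [hw, show v * ((π : ↥H) * v * (π : ↥H)⁻¹) = v * π * v⁻¹ * (v * v) * (π : ↥H)⁻¹ by group,
      TwoFusionB.sq_eq_one_of_inv hv, mul_one]
    exact mul_mem ((mem_normalizer_iff.1 hvP π).1 π.2) (inv_mem π.2)
  have h2 : (v * w0) ^ 2 = 1 := by
    rw [hcomm.mul_pow, pow_two, pow_two, TwoFusionB.sq_eq_one_of_inv hv,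
      TwoFusionB.sq_eq_one_of_inv hw0, one_mul]
  have h1 := PGroup.eq_one_of_pow_coprime P.isPGroup' (g := ⟨_, hmem⟩)
    ((Nat.coprime_primes hM.prime Nat.prime_two).2 hM.p_ne_two) (Subtype.ext h2)
  have h1' : v * w0 = 1 := congrArg Subtype.val h1
  exact hw0v (by
    rw [mul_eq_one_iff_inv_eq, TwoFusionB.inv_eq_of_inv hv] at h1'
    exact h1'.symm)

/-- The index of `H` is divisible by `p`. -/
theorem dvd_index (hM : Minimal p G) (hH : Cfsg.IsStronglyEmbedded H) :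
    p ∣ Nat.card (G ⧸ H) := by
  classical
  haveI := Fintype.ofFinite G
  haveI := Fintype.ofFinite (G ⧸ H)
  haveI := Fact.mk hM.prime
  set x0 : G ⧸ H := QuotientGroup.mk 1
  obtain ⟨t, htH, ht⟩ := TwoFusionB.exists_inv_mem hH
  have ht0 : t • x0 = x0 := TwoFusionB.smul_one_eq_iff.2 htH
  obtain ⟨u, hu, hu0, hfree⟩ : ∃ u : G, orderOf u = 2 ∧ u • x0 ≠ x0 ∧
      ∀ z : G ⧸ H, (t * u) • z ≠ z := by
    by_contra hcon
    push Not at hcon
    -- every moving involution agrees with `t` on some coset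
    let S := {u : G // orderOf u = 2 ∧ u • x0 ≠ x0}
    let Tt := Σ z : {z : G ⧸ H // z ≠ x0},
      {w : TwoFusionB.MoveInv H z.1 (t • z.1) // w.1 ≠ t}
    have hkey : ∀ s : S, ∃ z : G ⧸ H, z ≠ x0 ∧ s.1 • z = t • z ∧ s.1 ≠ t := by
      intro s
      obtain ⟨z, hz⟩ := hcon s.1 s.2.1 s.2.2
      have hst : s.1 • z = t • z := by
        rw [mul_smul] at hz
        exact (TwoFusionB.smul_swap ht hz).symm
      refine ⟨z, fun h => s.2.2 ?_, hst, fun h => s.2.2 (h ▸ ht0)⟩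
      rw [h, ht0] at hst
      exact hst
    choose f hf using hkey
    let g : S → Tt := fun s => ⟨⟨f s, (hf s).1⟩, ⟨⟨s.1, s.2.1, (hf s).2.1⟩, (hf s).2.2⟩⟩
    have hg : Function.Injective g := fun s s' h => by
      have := congrArg (fun x : Tt => x.2.1.1) h
      exact Subtype.ext this
    set i := Nat.card (TwoFusionB.FixInv H x0) with hi
    have hi1 : 0 < i := TwoFusionB.fixInv_card_pos hH x0
    have hT : Nat.card Tt = Nat.card {z : G ⧸ H // z ≠ x0} * (i - 1) := by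
      rw [Nat.card_sigma]
      rw [Finset.sum_congr rfl (g := fun _ => i - 1) fun z _ => ?_, Finset.sum_const,
        Finset.card_univ, smul_eq_mul, ← Nat.card_eq_fintype_card]
      have hne : z.1 ≠ t • z.1 := fun h =>
        z.2 (TwoFusionB.fix_unique hH ht h.symm ht0)
      have hcard : Nat.card (TwoFusionB.MoveInv H z.1 (t • z.1)) = i := by
        rw [TwoFusionB.card_moveInv hH hne, TwoFusionB.card_fixInv_eq _ x0]
      rw [Nat.card_eq_fintype_card, Fintype.card_subtype_compl,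
        ← Nat.card_eq_fintype_card, hcard]
      congr 1
      rw [Fintype.card_eq_one_iff]
      refine ⟨⟨⟨t, ht, rfl⟩, rfl⟩, ?_⟩
      rintro ⟨⟨w, hw⟩, hwt⟩
      exact Subtype.ext (Subtype.ext hwt)
    have hS : Nat.card S = Nat.card {z : G ⧸ H // z ≠ x0} * i := by
      have e : S ≃ Σ z : {z : G ⧸ H // z ≠ x0}, TwoFusionB.MoveInv H x0 z.1 :=
        { toFun := fun s => ⟨⟨s.1 • x0, s.2.2⟩, ⟨s.1, s.2.1, rfl⟩⟩
          invFun := fun q => ⟨q.2.1, q.2.2.1, by rw [q.2.2.2]; exact q.1.2⟩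
          left_inv := fun s => rfl
          right_inv := by
            rintro ⟨⟨z, hz⟩, w, hw, hwz⟩
            exact Sigma.subtype_ext (Subtype.ext hwz) rfl }
      rw [Nat.card_congr e, Nat.card_sigma,
        Finset.sum_congr rfl (g := fun _ => i) fun z _ => TwoFusionB.card_moveInv hH z.2.symm,
        Finset.sum_const, Finset.card_univ, smul_eq_mul, ← Nat.card_eq_fintype_card]
    obtain ⟨y, hy⟩ := TwoFusionB.exists_ne_coset hH x0
    haveI : Nonempty {z : G ⧸ H // z ≠ x0} := ⟨⟨y, hy.symm⟩⟩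
    have hle := Nat.card_le_card_of_injective g hg
    rw [hT, hS] at hle
    have := Nat.le_of_mul_le_mul_left hle Nat.card_pos
    omega
  obtain ⟨y, hy⟩ := TwoFusionB.exists_fix hH hu
  have hyx : x0 ≠ y := fun h => hu0 (h.symm ▸ hy)
  obtain ⟨k, hk⟩ := hM.real_isP (x := t * u) ht (by
      rw [mul_inv_rev, TwoFusionB.inv_eq_of_inv hu, TwoFusionB.inv_eq_of_inv ht, ← mul_assoc,
        TwoFusionB.sq_eq_one_of_inv ht, one_mul])
    (TwoFusionB.odd_orderOf_mul hH ht hu ht0 hy hyx)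
  have hP : IsPGroup p ↥(zpowers (t * u)) := IsPGroup.of_card (n := k) (by rw [Nat.card_zpowers, hk])
  have hmod := hP.card_modEq_card_fixedPoints (G ⧸ H)
  have h0 : Nat.card (fixedPoints ↥(zpowers (t * u)) (G ⧸ H)) = 0 := by
    haveI : IsEmpty (fixedPoints ↥(zpowers (t * u)) (G ⧸ H)) :=
      ⟨fun z => hfree z.1 (z.2 ⟨t * u, mem_zpowers _⟩)⟩
    exact Nat.card_of_isEmpty
  rw [h0] at hmod
  exact Nat.modEq_zero_iff_dvd.1 hmod

end Cfsg.Agent.PN72
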