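import Cfsg.Agent.PN72.Strong

/-!
# Existence of the strongly embedded subgroup
-/

set_option autoImplicit false
set_option linter.style.haveILetI false

namespace Cfsg.Agent.PN72

open Subgroup

universe u

variable {G : Type u} [Group G] [Finite G] {p : ℕ} {S : Sylow 2 G} {A : Subgroup G}

/-- The subgroup generated by the `O(C(a))`, `a ∈ A#`. -/
abbrev join (A : Subgroup G) : Subgroup G := ⨆ a : {a : G // a ∈ A ∧ a ≠ 1}, th (a : G)

theorem Closed.join_spec (hM : Minimal p G) (hc : Closed S A) :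
    ¬ 2 ∣ Nat.card ↥(join A) ∧
      ∀ a ∈ A, a ≠ 1 → join A ⊓ centralizer {a} = th a := by
  haveI : Fact (Nat.Prime 2) := ⟨Nat.prime_two⟩
  have h8 := hc.big
  have h := Closed.functor hM hc.elem (by norm_num; omega)
  obtain ⟨⟨hC, hp, hinv, hbal⟩, hsol⟩ := h
  exact S0217.result A (fun a ha b hb => elem_comm hc.elem ha hb) hc.elem.2 (by norm_num; omega)
    (fun a => th a) hC hp hinv hsol hbal

theorem conj_th {x a : G} : (th a).map (MulAut.conj x).toMonoidHom = th (x * a * x⁻¹) :=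
  UnbalTriple.map_centralizerPPrimeCore x a

/-- An element moving a noncyclic subgroup of `A` into `A` normalizes the join. -/
theorem Closed.mem_normalizer_join (hM : Minimal p G) (hc : Closed S A) {B : Subgroup G}
    (hBA : B ≤ A) (hB : 3 ≤ Nat.card ↥B) (hBn : B ≤ normalizer (join A : Set G)) {x : G}
    (hx : ∀ b ∈ B, x * b * x⁻¹ ∈ A) : x ∈ normalizer (join A : Set G) := by
  obtain ⟨hodd, hθ⟩ := hc.join_spec hM
  have hBel : Cfsg.IsElementaryAbelian 2 B :=
    ⟨⟨⟨fun u v => Subtype.ext (elem_comm hc.elem (hBA u.2) (hBA v.2))⟩⟩,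
      fun a ha => hc.elem.2 a (hBA ha)⟩
  have hle : join A ≤ (join A).comap (MulAut.conj x).toMonoidHom := by
    refine le_of_gen hBel hB hBn hodd fun b hb hb1 => ?_
    rw [hθ b (hBA hb) hb1, ← map_le_iff_le_comap, conj_th]
    exact le_iSup (fun a : {a : G // a ∈ A ∧ a ≠ 1} => th (a : G))
      ⟨_, hx b hb, fun h => hb1 (conj_eq_one_iff.1 h)⟩
  refine S4Free.cj_eq_self.1 (eq_of_le_of_card_ge ?_ S4Free.card_cj.ge)
  rw [S4Free.cj, map_le_iff_le_comap]
  exact hle

theorem Closed.normalizer_le_join (hM : Minimal p G) (hc : Closed S A) :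
    normalizer (A : Set G) ≤ normalizer (join A : Set G) := by
  intro x hx
  have key : ∀ y ∈ normalizer (A : Set G), (join A).map (MulAut.conj y).toMonoidHom ≤ join A := by
    intro y hy
    rw [Subgroup.map_iSup]
    refine iSup_le fun a => ?_
    rw [conj_th]
    exact le_iSup (fun a : {a : G // a ∈ A ∧ a ≠ 1} => th (a : G))
      ⟨_, (mem_normalizer_iff.1 hy _).1 a.2.1, fun h => a.2.2 (conj_eq_one_iff.1 h)⟩
  exact S4Free.cj_eq_self.1 (eq_of_le_of_card_ge (key x hx) S4Free.card_cj.ge)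

/-- Centralizers of elements of `A` normalize the join. -/
theorem Closed.centralizer_le_join (hM : Minimal p G) (hc : Closed S A) {a : G} (haA : a ∈ A)
    (ha1 : a ≠ 1) : centralizer ({a} : Set G) ≤ normalizer (join A : Set G) := by
  haveI : Fact (Nat.Prime 2) := ⟨Nat.prime_two⟩
  haveI := hM.sol_centralizer ha1
  set H := normalizer (join A : Set G) with hH
  have hAH : A ≤ H := le_normalizer.trans (hc.normalizer_le_join hM)
  set X := centralizer ({a} : Set G) with hX
  have hAX : A ≤ X := fun b hb => mem_centralizer_singleton_iff.2 (elem_comm hc.elem hb haA)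
  set O := Cfsg.pPrimeCore 2 ↥X with hO
  have hOH : O.map X.subtype ≤ H :=
    (le_iSup (fun a : {a : G // a ∈ A ∧ a ≠ 1} => th (a : G)) ⟨a, haA, ha1⟩).trans le_normalizer
  obtain ⟨T, hT⟩ := ((isPGroup_elem hc.elem).of_equiv
    (subgroupOfEquivOfLe hAX).symm).exists_le_sylow
  set q := QuotientGroup.mk' O with hq
  have hchar : Cfsg.IsOfCharacteristicTwo (↥X ⧸ O) :=
    charTwo_of_core (Group.isSolvable_of_surjective (QuotientGroup.mk'_surjective O))
      Thompson.pPrimeCore_quotient_pPrimeCore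
  set P := Cfsg.pCore 2 (↥X ⧸ O) with hP
  have hcore := Thompson.pCore_le_sylow (T.mapSurjective (QuotientGroup.mk'_surjective O))
  set Y := P.comap q with hY
  haveI : Y.Normal := inferInstanceAs ((Cfsg.pCore 2 (↥X ⧸ O)).comap q).Normal
  -- `T` normalizes `A`
  have hTG : IsPGroup 2 ↥((T : Subgroup ↥X).map X.subtype) := T.isPGroup'.map _
  obtain ⟨P', hP'⟩ := hTG.exists_le_sylow
  obtain ⟨g, hg⟩ := MulAction.exists_smul_eq G P' S
  have hTS : ∀ s ∈ (T : Subgroup ↥X), g * (s : G) * g⁻¹ ∈ (S : Subgroup G) := by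
    intro s hs
    rw [← hg]
    exact ⟨(s : G), hP' ⟨s, hs, rfl⟩, rfl⟩
  have hgA : g ∈ normalizer (A : Set G) := by
    refine S4Free.cj_eq_self.1 (eq_of_le_of_card_ge ?_ S4Free.card_cj.ge)
    rintro _ ⟨b, hb, rfl⟩
    exact hc.sc.2 b hb g (hTS ⟨b, hAX hb⟩ (hT hb))
  have hscT : ∀ b ∈ A, ∀ x : G, ∀ s ∈ (T : Subgroup ↥X), x * b * x⁻¹ = (s : G) → x * b * x⁻¹ ∈ A := by
    intro b hb x s hs hxs
    have h1 : g * x * b * (g * x)⁻¹ = g * (x * b * x⁻¹) * g⁻¹ := by group
    have h2 := hc.sc.2 b hb (g * x) (by rw [h1, hxs]; exact hTS s hs)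
    rw [h1] at h2
    exact (mem_normalizer_iff.1 hgA _).2 h2
  have hTn : ∀ s ∈ (T : Subgroup ↥X), ∀ b ∈ A, (s : G) * b * (s : G)⁻¹ ∈ A := fun s hs b hb =>
    hscT b hb s (s * ⟨b, hAX hb⟩ * s⁻¹) (mul_mem (mul_mem hs (hT hb)) (inv_mem hs)) rfl
  set B := A ⊓ Y.map X.subtype with hB
  -- `a` lies in `B`
  set za : ↥X ⧸ O := q ⟨a, hAX haA⟩ with hza
  have hzac : za ∈ center (↥X ⧸ O) := by
    refine Subgroup.mem_center_iff.2 fun r => ?_
    obtain ⟨r, rfl⟩ := QuotientGroup.mk'_surjective O r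
    rw [hza, ← map_mul, ← map_mul]
    exact congrArg q (Subtype.ext (mem_centralizer_singleton_iff.1 r.2))
  have hza2 : za ^ 2 = 1 := by
    rw [hza, ← map_pow, show (⟨a, hAX haA⟩ : ↥X) ^ 2 = 1 from Subtype.ext (hc.elem.2 a haA),
      map_one]
  haveI hZn : (zpowers za).Normal := ⟨fun w hw r => by
    rw [(Subgroup.mem_center_iff.1 (zpowers_le.2 hzac hw) r), mul_inv_cancel_right]
    exact hw⟩
  have hZ2 : IsPGroup 2 ↥(zpowers za) := fun w => ⟨1, Subtype.ext (by
    obtain ⟨i, hi⟩ := w.2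
    simp only [pow_one, SubgroupClass.coe_pow, OneMemClass.coe_one]
    rw [← hi]
    rw [← zpow_natCast, ← zpow_mul, mul_comm, zpow_mul, zpow_natCast, hza2, one_zpow])⟩
  have haP : za ∈ P := Thompson.le_pCore hZn hZ2 (mem_zpowers za)
  have haB : a ∈ B := ⟨haA, ⟨⟨a, hAX haA⟩, haP, rfl⟩⟩
  have hB3 : 3 ≤ Nat.card ↥B := by
    by_contra hsmall
    have hBle : B ≤ zpowers a := by
      have h1 : zpowers a ≤ B := zpowers_le.2 haB
      refine (eq_of_le_of_card_ge h1 ?_).ge
      rw [Nat.card_zpowers, orderOf_two_of_mem hc.elem haA ha1]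
      omega
    set K : Subgroup (↥X ⧸ O) :=
      (centralizer ((P.map (QuotientGroup.mk' (zpowers za)) :
        Subgroup ((↥X ⧸ O) ⧸ zpowers za)) : Set ((↥X ⧸ O) ⧸ zpowers za))).comap
          (QuotientGroup.mk' (zpowers za)) with hK
    haveI : (P.map (QuotientGroup.mk' (zpowers za))).Normal :=
      Thompson.instPCoreNormal.map _ (QuotientGroup.mk'_surjective _)
    haveI : K.Normal := inferInstanceAs ((centralizer ((P.map (QuotientGroup.mk' (zpowers za)) :
        Subgroup ((↥X ⧸ O) ⧸ zpowers za)) : Set ((↥X ⧸ O) ⧸ zpowers za))).comap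
          (QuotientGroup.mk' (zpowers za))).Normal
    have hmemK : ∀ x, x ∈ K ↔ ∀ r ∈ P, x * r * x⁻¹ * r⁻¹ ∈ zpowers za := by
      intro x
      rw [hK, Subgroup.mem_comap, mem_centralizer_iff]
      constructor
      · intro h r hr
        rw [← QuotientGroup.eq_one_iff, QuotientGroup.mk_mul, QuotientGroup.mk_mul,
          QuotientGroup.mk_mul, QuotientGroup.mk_inv, QuotientGroup.mk_inv,
          mul_inv_eq_one, mul_inv_eq_iff_eq_mul]
        exact (h _ ⟨r, hr, rfl⟩).symm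
      · rintro h _ ⟨r, hr, rfl⟩
        have h1 := (QuotientGroup.eq_one_iff _).2 (h r hr)
        rw [QuotientGroup.mk_mul, QuotientGroup.mk_mul, QuotientGroup.mk_mul, QuotientGroup.mk_inv,
          QuotientGroup.mk_inv, mul_inv_eq_one, mul_inv_eq_iff_eq_mul] at h1
        exact h1.symm
    have hK2 : IsPGroup 2 ↥K := by
      intro x
      have hsq : (x : ↥X ⧸ O) ^ 2 ∈ P := by
        refine hchar (mem_centralizer_iff.2 fun r hr => ?_)
        obtain ⟨i, hi⟩ := (hmemK _).1 x.2 r hr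
        have hxr : (x : ↥X ⧸ O) * r * (x : ↥X ⧸ O)⁻¹ = za ^ i * r := by
          rw [show za ^ i = _ from hi]; group
        have hcen : za ^ i ∈ center (↥X ⧸ O) := zpow_mem hzac i
        have hi2 : za ^ i * za ^ i = 1 := by
          rw [← zpow_add, ← two_mul, zpow_mul, zpow_two, ← sq, hza2, one_zpow]
        have h2 : (x : ↥X ⧸ O) ^ 2 * r * ((x : ↥X ⧸ O) ^ 2)⁻¹ = r := by
          generalize hy : (x : ↥X ⧸ O) = y at hxr ⊢
          have hcy : za ^ i * y = y * za ^ i := (Subgroup.mem_center_iff.1 hcen y).symm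
          calc y ^ 2 * r * (y ^ 2)⁻¹ = y * (y * r * y⁻¹) * y⁻¹ := by simp [pow_two, mul_assoc]
            _ = (za ^ i * y) * r * y⁻¹ := by rw [hxr, hcy]; simp [mul_assoc]
            _ = za ^ i * (za ^ i * r) := by rw [← hxr]; simp [mul_assoc]
            _ = r := by rw [← mul_assoc, hi2, one_mul]
        exact (mul_inv_eq_iff_eq_mul.1 h2).symm
      obtain ⟨j, hj⟩ := Thompson.isPGroup_pCore (⟨_, hsq⟩ : ↥P)
      refine ⟨j + 1, Subtype.ext ?_⟩
      have hj' : ((x : ↥X ⧸ O) ^ 2) ^ 2 ^ j = 1 := congrArg Subtype.val hj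
      rw [SubgroupClass.coe_pow, pow_succ', pow_mul, hj', OneMemClass.coe_one]
    have hKP : K ≤ P := Thompson.le_pCore inferInstance hK2
    have hAY : A ≤ B := by
      intro b hb
      refine ⟨hb, ⟨⟨b, hAX hb⟩, hKP ((hmemK _).2 fun r hr => ?_), rfl⟩⟩
      obtain ⟨s, hs, hsr⟩ := hcore hr
      subst hsr
      set w : ↥X := ⟨b, hAX hb⟩ * s * (⟨b, hAX hb⟩ : ↥X)⁻¹ * s⁻¹ with hw
      have hwA : (w : G) ∈ A := by
        have h1 : (w : G) = b * ((s : G) * b⁻¹ * (s : G)⁻¹) := by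
          rw [hw]; simp [mul_assoc]
        rw [h1]
        exact mul_mem hb (hTn s hs _ (inv_mem hb))
      have hwY : w ∈ Y := by
        have hsY : s ∈ Y := hr
        exact mul_mem ((inferInstance : Y.Normal).conj_mem s hsY _) (inv_mem hsY)
      obtain ⟨i, hi⟩ := hBle ⟨hwA, ⟨w, hwY, rfl⟩⟩
      refine ⟨i, ?_⟩
      show za ^ i = q _ * q s * (q _)⁻¹ * (q s)⁻¹
      rw [← map_inv, ← map_inv, ← map_mul, ← map_mul, ← map_mul, hza, ← map_zpow]
      exact congrArg q (Subtype.ext (by rw [SubgroupClass.coe_zpow]; exact hi))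
    have := Nat.le_of_dvd Nat.card_pos (card_dvd_of_le hAY)
    have := hc.big
    omega
  have hBH : ∀ x : G, (∀ b ∈ B, x * b * x⁻¹ ∈ A) → x ∈ H := fun x hx =>
    hc.mem_normalizer_join hM inf_le_left hB3 (inf_le_left.trans hAH) hx
  have hTH : ∀ s ∈ (T : Subgroup ↥X), (s : G) ∈ H := fun s hs =>
    hBH _ fun b hb => hTn s hs b hb.1
  have hYH : ∀ y ∈ Y, (y : G) ∈ H := by
    intro y hy
    obtain ⟨s, hs, hsy⟩ := hcore hy
    have hmem : s⁻¹ * y ∈ O := QuotientGroup.eq.1 hsy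
    have h3 : (y : G) = (s : G) * ((s⁻¹ * y : ↥X) : G) := by simp
    rw [h3]
    exact mul_mem (hTH s hs) (hOH ⟨_, hmem, rfl⟩)
  -- a Sylow subgroup of `Y`
  set R := (T : Subgroup ↥X).subgroupOf Y with hR
  have hR2 : IsPGroup 2 ↥R := T.isPGroup'.comap_subtype
  have hRidx : ¬ 2 ∣ R.index := by
    intro h
    set R' := (T : Subgroup ↥X) ⊓ Y with hR'
    have hsurj : R'.map q = P := by
      refine le_antisymm ((map_mono inf_le_right).trans (map_comap_le q P)) fun r hr => ?_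
      obtain ⟨s, hs, rfl⟩ := hcore hr
      exact ⟨s, ⟨hs, hr⟩, rfl⟩
    have hcardY : Nat.card ↥Y = Nat.card ↥O * Nat.card ↥P := by
      rw [hY, Solvable.card_comap_mk' O P, mul_comm]
    have hRc : Nat.card ↥R = Nat.card ↥R' := by
      rw [hR, hR', ← inf_subgroupOf_right]
      exact Nat.card_congr (subgroupOfEquivOfLe inf_le_right).toEquiv
    have hdvd : Nat.card ↥P ∣ Nat.card ↥R' := hsurj ▸ Subgroup.card_map_dvd R' q
    obtain ⟨m, hm⟩ := hdvd
    have h1 : Nat.card ↥R * R.index = Nat.card ↥O * Nat.card ↥P := by rw [card_mul_index, hcardY]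
    rw [hRc, hm, mul_assoc, mul_comm (Nat.card ↥O), mul_right_inj' Nat.card_pos.ne'] at h1
    exact Thompson.not_dvd_card_pPrimeCore (p := 2) (G := ↥X)
      (h1 ▸ dvd_mul_of_dvd_right h m)
  intro x hx
  have htop := Sylow.normalizer_sup_eq_top (hR2.toSylow hRidx)
  have hxm : (⟨x, hx⟩ : ↥X) ∈
      normalizer (((hR2.toSylow hRidx : Subgroup ↥Y).map Y.subtype : Subgroup ↥X) : Set ↥X) ⊔ Y := by
    rw [htop]; trivial
  refine (sup_le ?_ (fun y hy => (hYH y hy : y ∈ H.subgroupOf X)) :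
    _ ≤ H.subgroupOf X) hxm
  intro n hn
  refine hBH _ fun b hb => ?_
  obtain ⟨hbA, y, hy, rfl⟩ := hb
  have hb' : y ∈ (hR2.toSylow hRidx : Subgroup ↥Y).map Y.subtype := ⟨⟨y, hy⟩, hT hbA, rfl⟩
  obtain ⟨r, hr, hrn⟩ := (mem_normalizer_iff.1 hn y).1 hb'
  exact hscT _ hbA n r hr (congrArg Subtype.val hrn).symm

/-- The minimal counterexample has a strongly embedded subgroup. -/
theorem exists_stronglyEmbedded (hM : Minimal p G) :
    ∃ H : Subgroup G, Cfsg.IsStronglyEmbedded H := by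
  haveI : Fact (Nat.Prime 2) := ⟨Nat.prime_two⟩
  obtain ⟨S, A, hc⟩ := exists_closed hM
  obtain ⟨hodd, hθ⟩ := hc.join_spec hM
  by_cases hW : join A = ⊥
  swap
  · have hWtop : join A ≠ ⊤ := fun h => hodd (by rw [h, Subgroup.card_top]; exact hM.two_dvd)
    exact ⟨_, hc.stronglyEmbedded hM (hM.normalizer_ne_top hW hWtop)
      (hc.normalizer_le_join hM) fun a ha ha1 => hc.centralizer_le_join hM ha ha1⟩
  have hth : ∀ a ∈ A, a ≠ 1 → th a = ⊥ := fun a ha ha1 =>
    le_bot_iff.1 (hW ▸ le_iSup (fun a : {a : G // a ∈ A ∧ a ≠ 1} => th (a : G)) ⟨a, ha, ha1⟩)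
  have hSN : (S : Subgroup G) ≤ normalizer (A : Set G) := normalizer_le_of_closed hc.le hc.sc
  have hinvS : ∀ t ∈ (S : Subgroup G), orderOf t = 2 → th t = ⊥ := by
    intro t htS ht
    have ht1 : t ≠ 1 := fun h => by rw [h, orderOf_one] at ht; omega
    have htt : t * t = 1 := by rw [← sq, ← ht, pow_orderOf_eq_one]
    set E := A ⊓ centralizer ({t} : Set G) with hE
    have hE3 : 3 ≤ Nat.card ↥E := hc.four_le (hSN htS) ht
    have hcomm : ∀ w ∈ E, w * t = t * w := fun w hw => mem_centralizer_singleton_iff.1 hw.2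
    -- the group generated by `E` and `t`
    set E2 := E ⊔ zpowers t with hE2
    have hgen : ∀ x ∈ (E : Set G) ∪ {t}, ∀ y ∈ (E : Set G) ∪ {t}, x * y = y * x := by
      rintro x (hx | rfl) y (hy | rfl)
      · exact elem_comm hc.elem hx.1 hy.1
      · exact hcomm x hx
      · exact (hcomm y hy).symm
      · rfl
    have hcl : E2 = closure ((E : Set G) ∪ {t}) := by
      rw [hE2, Subgroup.closure_union, Subgroup.closure_eq, Subgroup.zpowers_eq_closure]
    haveI hC2 : IsMulCommutative ↥E2 := hcl ▸ isMulCommutative_closure hgen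
    have hE2el : Cfsg.IsElementaryAbelian 2 E2 := by
      refine ⟨hC2, fun x hx => ?_⟩
      rw [hcl] at hx
      refine closure_induction (p := fun x _ => x ^ 2 = 1) ?_ (one_pow _) ?_ ?_ hx
      · rintro x (hx | rfl)
        · exact hc.elem.2 x hx.1
        · rw [sq, htt]
      · intro x y hx hy hx2 hy2
        have : Commute x y := congrArg Subtype.val
          (mul_comm' (⟨x, hcl ▸ hx⟩ : ↥E2) ⟨y, hcl ▸ hy⟩)
        rw [this.mul_pow, hx2, hy2, one_mul]
      · intro x _ hx2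
        rw [inv_pow, hx2, inv_one]
    have hfun := Closed.functor hM hE2el (by
      have : Nat.card ↥E ≤ Nat.card ↥E2 :=
        Nat.le_of_dvd Nat.card_pos (card_dvd_of_le le_sup_left)
      rcases IsPGroup.iff_card.1 (isPGroup_elem hE2el) with ⟨n, hn⟩
      rcases n with _ | _ | n
      · rw [hn] at this; norm_num at this; omega
      · rw [hn] at this; norm_num at this; omega
      · rw [hn]; exact Nat.pow_le_pow_right two_pos (by omega))
    obtain ⟨⟨-, hodd', hinv, hbal⟩, -⟩ := hfun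
    have htE : t ∈ E2 := mem_sup_right (mem_zpowers t)
    refine le_bot_iff.1 (le_of_gen (E := E)
      ⟨⟨⟨fun u v => Subtype.ext (elem_comm hc.elem u.2.1 v.2.1)⟩⟩, fun a ha => hc.elem.2 a ha.1⟩
      hE3 (inf_le_right.trans (Signal38.centralizer_le_normalizer_centralizerPPrimeCore 2 t))
      (hodd' t htE ht1) fun b hb hb1 => ?_)
    exact (hbal t htE ht1 b (mem_sup_left hb) hb1).trans (hth b hb.1 hb1).le
  have hinv : ∀ t : G, orderOf t = 2 → th t = ⊥ := by
    intro t ht
    obtain ⟨P', hP'⟩ := ((IsPGroup.of_card (n := 1) (by rw [Nat.card_zpowers, ht, pow_one])) :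
      IsPGroup 2 ↥(zpowers t)).exists_le_sylow
    obtain ⟨g, hg⟩ := MulAction.exists_smul_eq G P' S
    have hmem : g * t * g⁻¹ ∈ (S : Subgroup G) := by
      rw [← hg]; exact ⟨t, hP' (mem_zpowers t), rfl⟩
    have h1 := hinvS _ hmem
      (by rw [show g * t * g⁻¹ = MulAut.conj g t from rfl, MulEquiv.orderOf_eq, ht])
    rw [← conj_th, map_eq_bot_iff_of_injective _ (MulAut.conj g).injective] at h1
    exact h1
  have hloc : ∀ M : Subgroup G, Cfsg.IsTwoLocal M → Group.IsSolvable M ∧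
      Cfsg.IsOfCharacteristicTwo ↥M ∧ ¬ Cfsg.Involves (Equiv.Perm (Fin 4)) ↥M := by
    rintro M ⟨R, hR2, hRne, rfl⟩
    set M := normalizer (R : Set G) with hMdef
    have hMne : M ≠ ⊤ := hM.normalizer_ne_top hRne (hM.pgroup_ne_top Nat.prime_two hR2)
    haveI := hM.sol M hMne
    refine ⟨inferInstance, ?_, fun h => hM.free (LocalEven61.involves_of_subgroup M h)⟩
    refine charTwo_of_core inferInstance ?_
    set U := (Cfsg.pPrimeCore 2 ↥M).map M.subtype with hU
    have hUM : M ≤ normalizer (U : Set G) :=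
      S4Free.le_normalizer_map_subtype _ inferInstance
    have hUodd : (Nat.card ↥U).Coprime 2 :=
      Thompson.card_pPrimeCore_coprime.coprime_dvd_left (Subgroup.card_map_dvd _ _)
    have hUR : ∀ u ∈ U, ∀ r ∈ R, u * r = r * u := by
      intro u hu r hr
      have huM : u ∈ M := map_subtype_le _ hu
      have h1 : u * r * u⁻¹ * r⁻¹ ∈ U ⊓ R := ⟨by
        rw [show u * r * u⁻¹ * r⁻¹ = u * (r * u⁻¹ * r⁻¹) by group]
        exact mul_mem hu ((mem_normalizer_iff.1 (hUM (le_normalizer hr)) _).1 (inv_mem hu)),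
        mul_mem ((mem_normalizer_iff.1 huM r).1 hr) (R.inv_mem hr)⟩
      rw [inf_comm, Thompson.inf_eq_bot_of_isPGroup_of_coprime hR2 hUodd, Subgroup.mem_bot,
        mul_inv_eq_one, mul_inv_eq_iff_eq_mul] at h1
      exact h1
    haveI : Nontrivial ↥R := (nontrivial_iff_ne_bot R).2 hRne
    obtain ⟨z, hz⟩ := exists_prime_orderOf_dvd_card' (G := ↥(center ↥R)) 2
      (PGroup.dvd_card_center hR2)
    set t := ((z : ↥R) : G) with htdef
    have ht : orderOf t = 2 := by rw [htdef, Subgroup.orderOf_coe, Subgroup.orderOf_coe, hz]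
    have ht1 : t ≠ 1 := fun h => by rw [h, orderOf_one] at ht; omega
    set X := centralizer ({t} : Set G) with hX
    haveI := hM.sol_centralizer ht1
    have hUX : U ≤ X := fun u hu => mem_centralizer_singleton_iff.2 (hUR u hu t (z : ↥R).2)
    have hRX : R ≤ X := fun r hr => mem_centralizer_singleton_iff.2
      (congrArg Subtype.val (Subgroup.mem_center_iff.1 z.2 ⟨r, hr⟩))
    have hchar : Cfsg.IsOfCharacteristicTwo ↥X := charTwo_of_core inferInstance (by
      have := hinv t ht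
      rwa [th, Cfsg.centralizerPPrimeCore,
        map_eq_bot_iff_of_injective _ X.subtype_injective] at this)
    set Q := (Cfsg.pCore 2 ↥X).map X.subtype with hQ
    have hQn : X ≤ normalizer (Q : Set G) :=
      S4Free.le_normalizer_map_subtype _ Thompson.instPCoreNormal
    have hQ2 : IsPGroup 2 ↥Q := Thompson.isPGroup_pCore.map _
    have hcen : U ≤ centralizer (Q : Set G) := by
      refine Coprime.thompson_pxq 2 R U Q hR2 hUodd hQ2 ?_ (hRX.trans hQn) (hUX.trans hQn) ?_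
      · exact fun r hr => mem_centralizer_iff.2 fun u hu => hUR u hu r hr
      · intro c hc'
        refine mem_centralizer_iff.2 fun u hu => ?_
        have hcM : c ∈ M := centralizer_le_normalizer _ hc'.2
        have h1 : u * c * u⁻¹ * c⁻¹ ∈ U ⊓ Q := ⟨by
          rw [show u * c * u⁻¹ * c⁻¹ = u * (c * u⁻¹ * c⁻¹) by group]
          exact mul_mem hu ((mem_normalizer_iff.1 (hUM hcM) _).1 (inv_mem hu)),
          mul_mem ((mem_normalizer_iff.1 (hQn (hUX hu)) c).1 hc'.1) (Q.inv_mem hc'.1)⟩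
        rw [inf_comm, Thompson.inf_eq_bot_of_isPGroup_of_coprime hQ2 hUodd, Subgroup.mem_bot,
          mul_inv_eq_one, mul_inv_eq_iff_eq_mul] at h1
        exact h1
    have hUQ : U ≤ Q := fun u hu => ⟨⟨u, hUX hu⟩, hchar (mem_centralizer_iff.2 fun c hc' =>
      Subtype.ext (mem_centralizer_iff.1 (hcen hu) (c : G) ⟨c, hc', rfl⟩)), rfl⟩
    have hUbot : U = ⊥ := le_bot_iff.1 (Thompson.inf_eq_bot_of_isPGroup_of_coprime hQ2 hUodd ▸
      le_inf hUQ le_rfl)
    rwa [hU, map_eq_bot_iff_of_injective _ M.subtype_injective] at hUbot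
  have hSne : (S : Subgroup G) ≠ ⊥ := fun h => by
    have h2 := S.dvd_card_of_dvd_card hM.two_dvd
    rw [h, Subgroup.card_bot] at h2
    norm_num at h2
  obtain ⟨M, hMmax, -⟩ :=
    S4Free.exists_maximal_ge (S4Free.isTwoLocal_normalizer S.isPGroup' hSne)
  haveI := hM.simple
  refine ⟨M, S3756.result (even_iff_two_dvd.2 hM.two_dvd) ?_ hloc M hMmax⟩
  refine (Normal.eq_bot_or_eq_top (H := Cfsg.pCore 2 G)
    Thompson.instPCoreNormal).resolve_right fun h => ?_
  exact hM.pgroup_ne_top Nat.prime_two Thompson.isPGroup_pCore h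

end Cfsg.Agent.PN72
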