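import Cfsg.Agent.PN72.Basic
import Cfsg.Agent.FG72.S4Free.Unique
import Cfsg.Agent.S2796
import Cfsg.Agent.S0217
import Cfsg.Agent.S1279
import Cfsg.Agent.S0058

/-!
# A strongly closed elementary abelian 2-subgroup of rank at least three
-/

set_option autoImplicit false
set_option linter.style.haveILetI false

namespace Cfsg.Agent.PN72

open Subgroup

universe u

variable {G : Type u} [Group G] [Finite G] {p : ℕ}

/-- The data used to build a strongly embedded subgroup. -/
structure Closed (S : Sylow 2 G) (A : Subgroup G) : Prop where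
  le : A ≤ (S : Subgroup G)
  elem : Cfsg.IsElementaryAbelian 2 A
  sc : Cfsg.IsStronglyClosed A (S : Subgroup G)
  fus : ∀ a ∈ A, ∀ g : G, g * a * g⁻¹ ∈ A →
    ∃ n ∈ normalizer (A : Set G), n * a * n⁻¹ = g * a * g⁻¹
  big : 8 ≤ Nat.card ↥A

theorem normalizer_le_of_closed {A S : Subgroup G} (hAS : A ≤ S) (hsc : Cfsg.IsStronglyClosed A S) :
    S ≤ normalizer (A : Set G) := by
  intro s hs
  refine mem_normalizer_iff.2 fun a => ⟨fun ha => hsc.2 a ha s
    (mul_mem (mul_mem hs (hAS ha)) (inv_mem hs)), fun ha => ?_⟩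
  have h1 : s⁻¹ * (s * a * s⁻¹) * (s⁻¹)⁻¹ ∈ S := mul_mem (mul_mem (inv_mem hs) (hAS ha)) (by simpa using hs)
  have h2 := hsc.2 _ ha s⁻¹ h1
  rwa [show s⁻¹ * (s * a * s⁻¹) * (s⁻¹)⁻¹ = a by group] at h2

omit [Finite G] in
theorem elem_comm {A : Subgroup G} (hA : Cfsg.IsElementaryAbelian 2 A) {a b : G} (ha : a ∈ A)
    (hb : b ∈ A) : a * b = b * a := by
  haveI := hA.1
  exact congrArg Subtype.val (mul_comm' (⟨a, ha⟩ : ↥A) ⟨b, hb⟩)

theorem orderOf_two_of_mem {A : Subgroup G} (hA : Cfsg.IsElementaryAbelian 2 A) {a : G}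
    (ha : a ∈ A) (h1 : a ≠ 1) : orderOf a = 2 := orderOf_eq_prime (hA.2 a ha) h1

theorem isPGroup_elem {A : Subgroup G} (hA : Cfsg.IsElementaryAbelian 2 A) : IsPGroup 2 ↥A :=
  fun a => ⟨1, Subtype.ext (by simpa using hA.2 a a.2)⟩

theorem exists_closed (hM : Minimal p G) : ∃ (S : Sylow 2 G) (A : Subgroup G), Closed S A := by
  haveI : Fact (Nat.Prime 2) := ⟨Nat.prime_two⟩
  have hp := hM.prime
  obtain ⟨S⟩ := (inferInstance : Nonempty (Sylow 2 G))
  have hsec : ∀ (K R : Subgroup G) [hR : (R.subgroupOf K).Normal],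
      centralizer (Cfsg.pCore 2 (K ⧸ R.subgroupOf K) : Set (K ⧸ R.subgroupOf K)) ≤
        Cfsg.pCore 2 (K ⧸ R.subgroupOf K) →
      Cfsg.IsCompositionKGroupWith Cfsg.IsSuzukiOrPSL2OddPowerThree (K ⧸ R.subgroupOf K) := by
    intro K R _ hch
    set f := QuotientGroup.mk' (R.subgroupOf K)
    have hsurj : Function.Surjective f := QuotientGroup.mk'_surjective _
    haveI : Group.IsSolvable (K ⧸ R.subgroupOf K) := by
      by_cases hK : K = ⊤
      · subst hK
        haveI := hM.simple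
        haveI : IsSimpleGroup ↥(⊤ : Subgroup G) := Subgroup.topEquiv.isSimpleGroup
        rcases Normal.eq_bot_or_eq_top (H := (Cfsg.pCore 2 _).comap f) inferInstance with h | h
        · have hbot : Cfsg.pCore 2 (↥(⊤ : Subgroup G) ⧸ R.subgroupOf ⊤) = ⊥ := by
            rw [← map_comap_eq_self_of_surjective hsurj (Cfsg.pCore 2 _), h, Subgroup.map_bot]
          refine isSolvable_of_comm fun a b => ?_
          have h1 : ∀ x, x ∈ centralizer (Cfsg.pCore 2 (↥(⊤ : Subgroup G) ⧸ R.subgroupOf ⊤) :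
              Set (↥(⊤ : Subgroup G) ⧸ R.subgroupOf ⊤)) := fun x => mem_centralizer_iff.2 fun c hc => by
            rw [hbot] at hc
            rw [Subgroup.mem_bot.1 hc, one_mul, mul_one]
          have h2 : ∀ x, x ∈ (⊥ : Subgroup (↥(⊤ : Subgroup G) ⧸ R.subgroupOf ⊤)) :=
            fun x => hbot ▸ hch (h1 x)
          rw [Subgroup.mem_bot.1 (h2 a), Subgroup.mem_bot.1 (h2 b)]
        · have htop : Cfsg.pCore 2 (↥(⊤ : Subgroup G) ⧸ R.subgroupOf ⊤) = ⊤ := by
            rw [← map_comap_eq_self_of_surjective hsurj (Cfsg.pCore 2 _), h,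
              Subgroup.map_top_of_surjective f hsurj]
          haveI : Group.IsNilpotent ↥(Cfsg.pCore 2 (↥(⊤ : Subgroup G) ⧸ R.subgroupOf ⊤)) :=
            (Thompson.isPGroup_pCore).isNilpotent
          exact Group.isSolvable_of_surjective
            (f := (Cfsg.pCore 2 (↥(⊤ : Subgroup G) ⧸ R.subgroupOf ⊤)).subtype)
            fun x => ⟨⟨x, htop ▸ mem_top x⟩, rfl⟩
      · haveI := hM.sol K hK
        exact Group.isSolvable_of_surjective hsurj
    intro H _ N _ hsimp hnc
    exact absurd ((IsSimpleGroup.comm_iff_isSolvable).2 inferInstance) (fun h => hnc ⟨⟨h⟩⟩)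
  obtain ⟨hAS, hel, hsc, T, hAT, hT⟩ := S2796.result hM.free hsec S _ rfl _ rfl
  set A := (Subgroup.normalClosure (((Cfsg.omegaOne 2 ((S : Subgroup G) ⊓
    centralizer ((S : Subgroup G) : Set G))).subgroupOf
      (normalizer (Cfsg.thompsonSubgroupOf 2 (S : Subgroup G) : Set G)) :
        Subgroup ↥(normalizer (Cfsg.thompsonSubgroupOf 2 (S : Subgroup G) : Set G))) :
          Set ↥(normalizer (Cfsg.thompsonSubgroupOf 2 (S : Subgroup G) : Set G)))).map
    (normalizer (Cfsg.thompsonSubgroupOf 2 (S : Subgroup G) : Set G)).subtype with hA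
  have hfus : ∀ a ∈ A, ∀ g : G, g * a * g⁻¹ ∈ A →
      ∃ n ∈ normalizer (A : Set G), n * a * n⁻¹ = g * a * g⁻¹ := by
    intro a ha g hga
    obtain ⟨-, h⟩ := hT {a} (Set.singleton_subset_iff.2 (hAT ha))
    obtain ⟨n, hn, hn'⟩ := h g (by rw [Set.image_singleton, Set.singleton_subset_iff]; exact hAT hga)
    exact ⟨n, hn, (hn' a rfl).symm⟩
  -- a central involution of `S` lies in `A`
  haveI : Nontrivial ↥(S : Subgroup G) := Finite.one_lt_card_iff_nontrivial.1
    (lt_of_lt_of_le one_lt_two (Nat.le_of_dvd Nat.card_pos (S.dvd_card_of_dvd_card hM.two_dvd)))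
  obtain ⟨z, hz⟩ := exists_prime_orderOf_dvd_card' (G := ↥(center ↥(S : Subgroup G))) 2
    (PGroup.dvd_card_center S.isPGroup')
  set c := ((z : ↥(S : Subgroup G)) : G) with hcdef
  have hc2 : orderOf c = 2 := by rw [hcdef, Subgroup.orderOf_coe, Subgroup.orderOf_coe, hz]
  have hcS : c ∈ (S : Subgroup G) := (z : ↥(S : Subgroup G)).2
  have hcC : c ∈ centralizer ((S : Subgroup G) : Set G) := mem_centralizer_iff.2 fun s hs =>
    congrArg Subtype.val (Subgroup.mem_center_iff.1 z.2 ⟨s, hs⟩)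
  have hcN : c ∈ normalizer (Cfsg.thompsonSubgroupOf 2 (S : Subgroup G) : Set G) := by
    refine centralizer_le_normalizer _ (mem_centralizer_iff.2 fun s hs => ?_)
    exact mem_centralizer_iff.1 hcC s (map_subtype_le _ hs)
  have hcA : c ∈ A := by
    refine ⟨⟨c, hcN⟩, subset_normalClosure ?_, rfl⟩
    exact subset_closure ⟨⟨hcS, hcC⟩, orderOf_dvd_iff_pow_eq_one.1 hc2.dvd⟩
  refine ⟨S, A, hAS, hel, hsc, hfus, ?_⟩
  by_contra hsmall
  obtain ⟨n, hn⟩ := IsPGroup.iff_card.1 (isPGroup_elem hel)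
  have hcard : Nat.card ↥A ≤ 4 := by
    have hn2 : n ≤ 2 := by
      by_contra h
      have := Nat.pow_le_pow_right (show 0 < 2 by norm_num) (show 3 ≤ n by omega)
      rw [hn] at hsmall
      norm_num at this
      omega
    rw [hn]
    exact (Nat.pow_le_pow_right (by norm_num) hn2).trans (by norm_num)
  -- `N(A)` centralizes `c`
  set M := normalizer (A : Set G) with hMdef
  have hSM : (S : Subgroup G) ≤ M := normalizer_le_of_closed hAS hsc
  set C := centralizer ({(⟨c, hSM hcS⟩ : ↥M)} : Set ↥M) with hCdef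
  have hodd : ¬ 2 ∣ C.index := fun h => (S.subtype hSM).not_dvd_index
    (h.trans (index_dvd_of_le fun s hs => mem_centralizer_singleton_iff.2 (Subtype.ext
      ((mem_centralizer_iff.1 hcC s hs).trans rfl))))
  have hidx : C.index ≤ 3 := by
    have h1 : C.index = Nat.card (MulAction.orbit (ConjAct ↥M) (⟨c, hSM hcS⟩ : ↥M)) := by
      rw [Nat.card_coe_set_eq, ← MulAction.index_stabilizer, ConjAct.stabilizer_eq_centralizer]
      rfl
    let j : MulAction.orbit (ConjAct ↥M) (⟨c, hSM hcS⟩ : ↥M) → {a : ↥A // a ≠ 1} := fun x =>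
      ⟨⟨(x.1 : G), by
        obtain ⟨m, hm⟩ := x.2
        rw [← hm]
        exact (mem_normalizer_iff.1 (ConjAct.ofConjAct m).2 c).1 hcA⟩, fun h => by
        obtain ⟨m, hm⟩ := x.2
        have h' : (x.1 : G) = 1 := congrArg Subtype.val h
        rw [← hm] at h'
        have h'' : ((ConjAct.ofConjAct m : ↥M) : G) * c * ((ConjAct.ofConjAct m : ↥M) : G)⁻¹ = 1 := h'
        rw [conj_eq_one_iff] at h''
        rw [h'', orderOf_one] at hc2
        omega⟩
    have h2 : Function.Injective j := fun x y h =>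
      Subtype.ext (Subtype.ext (congrArg (fun w : {a : ↥A // a ≠ 1} => (w.1 : G)) h))
    classical
    haveI := Fintype.ofFinite ↥A
    have h3 := Nat.card_le_card_of_injective j h2
    rw [Nat.card_eq_fintype_card (α := {a : ↥A // a ≠ 1}), Fintype.card_subtype_compl,
      Fintype.card_subtype_eq, ← Nat.card_eq_fintype_card] at h3
    omega
  have hC1 : C.index = 1 := by
    have h0 : C.index ≠ 0 := index_ne_zero_of_finite
    by_contra hne
    have h3 : C.index = 3 := by omega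
    haveI : Fact (Nat.Prime 3) := ⟨Nat.prime_three⟩
    obtain ⟨R⟩ := (inferInstance : Nonempty (Sylow 3 ↥M))
    refine R.not_dvd_index ((h3 ▸ dvd_rfl : 3 ∣ C.index).trans (index_dvd_of_le fun r hr => ?_))
    obtain ⟨j, hj⟩ := IsPGroup.iff_orderOf.1 R.isPGroup' ⟨r, hr⟩
    rw [Subgroup.orderOf_mk, ← Subgroup.orderOf_coe] at hj
    have hrn : zpowers (r : G) ≤ normalizer (A : Set G) := zpowers_le.2 r.2
    have hd : Nat.card ↥(A ⊔ zpowers (r : G)) ∣ 2 ^ n * 3 ^ j := by
      rw [← hn, ← hj, ← Nat.card_zpowers, ← Thompson.card_sup_mul_card_inf hrn]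
      exact Dvd.intro _ rfl
    have hco : (Nat.card ↥(A ⊔ zpowers (r : G))).Coprime p :=
      (Nat.Coprime.mul_left
        (((Nat.coprime_primes Nat.prime_two hp).2 hM.p_ne_two.symm).pow_left n)
        (((Nat.coprime_primes Nat.prime_three hp).2
          (by have := hM.three_lt; omega)).pow_left j)).coprime_dvd_left hd
    have hcomm := commute_of_nilp (hM.nilp _ hco) (mem_sup_left hcA)
      (mem_sup_right (mem_zpowers (r : G))) (by
        rw [hc2, hj]; exact ((Nat.coprime_primes Nat.prime_two Nat.prime_three).2 (by norm_num)).pow_right j)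
    exact mem_centralizer_singleton_iff.2 (Subtype.ext hcomm.eq.symm)
  refine hM.not_isolated S hc2 hcS fun g hg => ?_
  obtain ⟨m, hm, hmc⟩ := hfus c hcA g (hsc.2 c hcA g hg)
  rw [← hmc]
  have h1 : (⟨m, hm⟩ : ↥M) ∈ C := (index_eq_one.1 hC1) ▸ mem_top _
  have h2 : m * c = c * m := congrArg Subtype.val (mem_centralizer_singleton_iff.1 h1)
  rw [h2, mul_inv_cancel_right]

end Cfsg.Agent.PN72
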