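import Cfsg.Agent.PN72.Embedded

/-!
# The counting contradiction
-/

set_option autoImplicit false
set_option linter.style.haveILetI false

namespace Cfsg.Agent.PN72

open Subgroup MulAction

variable {G : Type*} [Group G] [Finite G] {p : ℕ} {H : Subgroup G}

/-- A power of an element swapping two cosets is an involution swapping them. -/
theorem exists_inv_swap (hH : Cfsg.IsStronglyEmbedded H) {n : G} {x y : G ⧸ H} (hxy : x ≠ y)
    (hx : n • x = y) (hy : n • y = x) : ∃ m : ℕ, orderOf (n ^ m) = 2 ∧ n ^ m • x = y := by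
  haveI : Fact (Nat.Prime 2) := ⟨Nat.prime_two⟩
  obtain ⟨e, d, hd, hed⟩ := Nat.exists_eq_two_pow_mul_odd (orderOf_pos n).ne'
  have h2 : ∀ z : G ⧸ H, z = x ∨ z = y → n ^ 2 • z = z := by
    rintro z (rfl | rfl) <;> rw [pow_two, mul_smul] <;> simp [hx, hy]
  obtain ⟨j, rfl⟩ := hd
  have hsw : n ^ (2 * j + 1) • x = y := by
    rw [pow_succ, pow_mul, mul_smul, hx]
    exact (stabilizer G y).pow_mem (mem_stabilizer_iff.2 (h2 y (Or.inr rfl))) j
  have hsw' : n ^ (2 * j + 1) • y = x := by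
    rw [pow_succ, pow_mul, mul_smul, hy]
    exact (stabilizer G x).pow_mem (mem_stabilizer_iff.2 (h2 x (Or.inl rfl))) j
  refine ⟨2 * j + 1, ?_, hsw⟩
  set w := n ^ (2 * j + 1) with hw
  have hwe : w ^ 2 ^ e = 1 := by
    rw [hw, ← pow_mul, mul_comm, ← hed, pow_orderOf_eq_one]
  have hodd := two_elem_fix hH hxy (d := w ^ 2)
    (by rw [pow_two, mul_smul, hsw, hsw']) (by rw [pow_two, mul_smul, hsw', hsw])
  have hdvd : orderOf (w ^ 2) ∣ 2 ^ e :=
    (orderOf_pow_dvd 2).trans (orderOf_dvd_of_pow_eq_one hwe)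
  obtain ⟨i, -, hi⟩ := (Nat.dvd_prime_pow Nat.prime_two).1 hdvd
  have h1 : w ^ 2 = 1 := by
    rw [← orderOf_eq_one_iff, hi]
    rcases i with _ | i
    · rfl
    · exact absurd (hi ▸ hodd) (Nat.not_odd_iff_even.2 (even_two.pow_of_ne_zero (by omega)))
  exact orderOf_eq_prime h1 fun h => hxy (by rw [← hsw, h, one_smul])

theorem false_of_se (hM : Minimal p G) (hH : Cfsg.IsStronglyEmbedded H) : False := by
  classical
  haveI : Fact (Nat.Prime 2) := ⟨Nat.prime_two⟩
  haveI := Fact.mk hM.prime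
  have hp := hM.prime
  set x0 : G ⧸ H := QuotientGroup.mk 1 with hx0
  obtain ⟨P1⟩ := (inferInstance : Nonempty (Sylow p ↥H))
  set P : Subgroup G := (P1 : Subgroup ↥H).map H.subtype with hPdef
  have hPp : IsPGroup p ↥P := P1.isPGroup'.map _
  have hPH : P ≤ H := map_subtype_le _
  have hPcard : Nat.card ↥P = p ^ (Nat.card ↥H).factorization p := by
    rw [hPdef, card_map_of_injective H.subtype_injective, P1.card_eq_multiplicity]
  obtain ⟨a, haH, _, _, ha, _, _, _⟩ := exists_pair hM hH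
  have hPne : P ≠ ⊥ := by
    intro h
    refine no_norm hM hH P1 (v := ⟨a, haH⟩) (by rw [← Subgroup.orderOf_coe]; exact ha) ?_
    rw [hPdef, map_eq_bot_iff_of_injective _ H.subtype_injective] at h
    rw [h, normalizer_eq_top_iff.2 (inferInstance : (⊥ : Subgroup ↥H).Normal)]
    trivial
  set N := normalizer (P : Set G) with hNdef
  have hN : N ≠ ⊤ := hM.normalizer_ne_top hPne (hM.pgroup_ne_top hp hPp)
  have hPN : P ≤ N := le_normalizer
  set F : Set (G ⧸ H) := fixedPoints ↥P (G ⧸ H) with hF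
  have hx0F : x0 ∈ F := fun π => TwoFusionB.smul_one_eq_iff.2 (hPH π.2)
  have hFN : ∀ n ∈ N, ∀ y ∈ F, n • y ∈ F := by
    intro n hn y hy π
    show (π : G) • (n • y) = n • y
    have h1 : n⁻¹ * π * n ∈ P := by
      have := (mem_normalizer_iff.1 (inv_mem hn) π).1 π.2
      rwa [inv_inv] at this
    have h2 : (n⁻¹ * π * n) • y = y := hy ⟨_, h1⟩
    rw [mul_smul, mul_smul, inv_smul_eq_iff] at h2
    exact h2
  -- involutions of `N` move every fixed point of `P`
  have hmove : ∀ v ∈ N, orderOf v = 2 → ∀ y ∈ F, v • y ≠ y := by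
    intro v hv hv2 y hy hvy
    obtain ⟨g, rfl⟩ := QuotientGroup.mk_surjective y
    set P' := P.map (MulAut.conj g⁻¹).toMonoidHom with hP'
    have hP'H : P' ≤ H := by
      rintro _ ⟨w, hw, rfl⟩
      have h3 : g⁻¹ * w * g ∈ H := TwoFusionB.smul_mk_eq_iff.1 (hy ⟨w, hw⟩)
      simpa using h3
    have hv' : g⁻¹ * v * g ∈ H := TwoFusionB.smul_mk_eq_iff.1 hvy
    have hcard : Nat.card ↥(P'.subgroupOf H) = p ^ (Nat.card ↥H).factorization p := by
      rw [Nat.card_congr (subgroupOfEquivOfLe hP'H).toEquiv, hP',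
        card_map_of_injective (f := (MulAut.conj g⁻¹).toMonoidHom) (MulAut.conj g⁻¹).injective,
        hPcard]
    refine no_norm hM hH (Sylow.ofCard _ hcard) (v := ⟨_, hv'⟩) ?_ ?_
    · rw [← Subgroup.orderOf_coe]
      show orderOf (g⁻¹ * v * g) = 2
      have := TwoFusionB.orderOf_conj_eq g⁻¹ v
      rwa [inv_inv, hv2] at this
    · rw [Sylow.coe_ofCard]
      have key : ∀ z : G, z ∈ P' ↔ g * z * g⁻¹ ∈ P := by
        intro z
        rw [hP', Subgroup.mem_map_equiv]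
        simp
      refine mem_normalizer_iff.2 fun z => ?_
      rw [mem_subgroupOf, mem_subgroupOf, key, key]
      show g * (z : G) * g⁻¹ ∈ P ↔ g * (g⁻¹ * v * g * z * (g⁻¹ * v * g)⁻¹) * g⁻¹ ∈ P
      rw [show g * (g⁻¹ * v * g * (z : G) * (g⁻¹ * v * g)⁻¹) * g⁻¹ = v * (g * z * g⁻¹) * v⁻¹ by
        group]
      exact mem_normalizer_iff.1 hv _
  -- involutions of `N` do not commute
  have hrank : ∀ u ∈ N, ∀ v ∈ N, orderOf u = 2 → orderOf v = 2 → Commute u v → u = v := by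
    intro u hu v hv hu2 hv2 huv
    by_contra hne
    obtain ⟨z, hz⟩ := TwoFusionB.exists_fix hH hu2
    exact hmove u hu hu2 z
      (fun π => solvable_le hM hH hN hu hv hu2 hv2 hne huv hz _ (hPN π.2)) hz
  -- the fixed point set
  have hpF : p ∣ Nat.card F :=
    (Nat.ModEq.dvd_iff (hPp.card_modEq_card_fixedPoints (G ⧸ H)) dvd_rfl).1 (dvd_index hM hH)
  haveI := Fintype.ofFinite G
  haveI := Fintype.ofFinite (G ⧸ H)
  haveI : Nonempty F := ⟨⟨x0, hx0F⟩⟩
  have hFgt : p ≤ Nat.card F := Nat.le_of_dvd Nat.card_pos hpF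
  -- an element of `N` swapping two fixed points
  have hswap : ∀ y ∈ F, y ≠ x0 → ∃ u ∈ N, orderOf u = 2 ∧ u • x0 = y := by
    intro y hy hyx
    obtain ⟨w, hw, hwx⟩ := TwoFusionB.exists_moveInv hH hyx.symm
    have hwy := TwoFusionB.smul_swap hw hwx
    set D := H ⊓ stabilizer G y with hD
    have hPD : P ≤ D := le_inf hPH fun π hπ => hy ⟨π, hπ⟩
    set P2 := P.map (MulAut.conj w).toMonoidHom with hP2
    have hP2D : P2 ≤ D := by
      rintro _ ⟨π, hπ, rfl⟩
      refine Subgroup.mem_inf.2 ⟨TwoFusionB.smul_one_eq_iff.1 ?_, mem_stabilizer_iff.2 ?_⟩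
      all_goals simp only [MulEquiv.coe_toMonoidHom, MulAut.conj_apply, mul_smul,
        TwoFusionB.inv_eq_of_inv hw]
      · have hy' : π • y = y := hy ⟨π, hπ⟩
        rw [← hx0, hwx, hy', hwy]
      · have hx' : π • x0 = x0 := hx0F ⟨π, hπ⟩
        rw [hwy, hx', hwx]
    have hDf : (Nat.card ↥D).factorization p = (Nat.card ↥H).factorization p := by
      refine le_antisymm ((Nat.factorization_le_iff_dvd Nat.card_pos.ne' Nat.card_pos.ne').2
        (card_dvd_of_le inf_le_left) p) ?_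
      have h1 : p ^ (Nat.card ↥H).factorization p ∣ Nat.card ↥D := hPcard ▸ card_dvd_of_le hPD
      exact (hp.pow_dvd_iff_le_factorization Nat.card_pos.ne').1 h1
    have h1 : Nat.card ↥(P.subgroupOf D) = p ^ (Nat.card ↥D).factorization p := by
      rw [Nat.card_congr (subgroupOfEquivOfLe hPD).toEquiv, hPcard, hDf]
    have h2 : Nat.card ↥(P2.subgroupOf D) = p ^ (Nat.card ↥D).factorization p := by
      rw [Nat.card_congr (subgroupOfEquivOfLe hP2D).toEquiv, hP2,
        card_map_of_injective (f := (MulAut.conj w).toMonoidHom) (MulAut.conj w).injective,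
        hPcard, hDf]
    obtain ⟨d, hd⟩ := MulAction.exists_smul_eq ↥D (Sylow.ofCard _ h2) (Sylow.ofCard _ h1)
    have hn : (d : G) * w ∈ N := by
      refine Coprime.le_normalizer_of_conj_mem (A := zpowers ((d : G) * w)) ?_ (mem_zpowers _)
      have hgen : (d : G) * w ∈ normalizer (P : Set G) := by
        refine S4Free.cj_eq_self.1 (eq_of_le_of_card_ge ?_ S4Free.card_cj.ge)
        intro z hz
        rw [S4Free.mem_cj] at hz
        set π := ((d : G) * w)⁻¹ * z * ((d : G) * w) with hπ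
        have hz' : z = (d : G) * (w * π * w⁻¹) * (d : G)⁻¹ := by rw [hπ]; group
        have hmem : w * π * w⁻¹ ∈ P2 := ⟨π, hz, rfl⟩
        have h3 : d * ⟨_, hP2D hmem⟩ * d⁻¹ ∈
            (d • Sylow.ofCard _ h2 : Sylow p ↥D) := by
          refine ⟨⟨_, hP2D hmem⟩, ?_, rfl⟩
          show (⟨_, hP2D hmem⟩ : ↥D) ∈ P2.subgroupOf D
          exact hmem
        rw [hd] at h3
        rw [hz']
        exact h3
      intro k hk π hπ
      exact (mem_normalizer_iff.1 ((zpowers_le.2 hgen) hk) π).1 hπ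
    have hdx : (d : G) • x0 = x0 := TwoFusionB.smul_one_eq_iff.2 d.2.1
    have hdy : (d : G) • y = y := mem_stabilizer_iff.1 d.2.2
    obtain ⟨m, hm, hmx⟩ := exists_inv_swap hH hyx.symm (n := (d : G) * w)
      (by rw [mul_smul, hwx, hdy]) (by rw [mul_smul, hwy, hdx])
    exact ⟨_, pow_mem hn m, hm, hmx⟩
  -- the involutions of `N` interchanging two given points
  let J : G → Type _ := fun u => {d : G // d ∈ P ∧ u * d * u⁻¹ = d⁻¹}
  have hfib : ∀ y, y ≠ x0 → ∀ u ∈ N, orderOf u = 2 → u • x0 = y →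
      Nat.card {v : G // (v ∈ N ∧ orderOf v = 2) ∧ v • x0 = y} = Nat.card (J u) := by
    intro y hyx u hu hu2 hux
    have huy := TwoFusionB.smul_swap hu2 hux
    refine Nat.card_congr
      { toFun := fun v => ⟨u * v.1, ?_, ?_⟩
        invFun := fun d => ⟨u * d.1, ⟨mul_mem hu (hPN d.2.1), ?_⟩, ?_⟩
        left_inv := fun v => Subtype.ext (by
          show u * (u * v.1) = v.1
          rw [← mul_assoc, TwoFusionB.sq_eq_one_of_inv hu2, one_mul])
        right_inv := fun d => Subtype.ext (by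
          show u * (u * d.1) = d.1
          rw [← mul_assoc, TwoFusionB.sq_eq_one_of_inv hu2, one_mul]) }
    · have hvy := TwoFusionB.smul_swap v.2.1.2 v.2.2
      have hfx : (u * v.1) • x0 = x0 := by rw [mul_smul, v.2.2, huy]
      have hfy : (u * v.1) • y = y := by rw [mul_smul, hvy, hux]
      obtain ⟨k, hk⟩ := hM.real_isP (x := u * v.1) hu2 (by
        rw [mul_inv_rev, TwoFusionB.inv_eq_of_inv v.2.1.2, TwoFusionB.inv_eq_of_inv hu2,
          ← mul_assoc, TwoFusionB.sq_eq_one_of_inv hu2, one_mul])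
        (two_elem_fix hH hyx.symm hfx hfy)
      have hH' : u * v.1 ∈ H := TwoFusionB.smul_one_eq_iff.1 hfx
      have hn : zpowers (⟨u * v.1, hH'⟩ : ↥H) ≤
          normalizer ((P1 : Subgroup ↥H) : Set ↥H) := by
        rw [zpowers_le]
        refine mem_normalizer_iff.2 fun z => ?_
        have hiff : ∀ w : ↥H, w ∈ (P1 : Subgroup ↥H) ↔ (w : G) ∈ P := fun w =>
          (mem_map_iff_mem H.subtype_injective).symm
        show z ∈ (P1 : Subgroup ↥H) ↔ _ ∈ (P1 : Subgroup ↥H)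
        rw [hiff, hiff]
        exact mem_normalizer_iff.1 (mul_mem hu v.2.1.1) _
      have hz : IsPGroup p ↥(zpowers (⟨u * v.1, hH'⟩ : ↥H)) :=
        IsPGroup.of_card (n := k) (by rw [Nat.card_zpowers, Subgroup.orderOf_mk, hk])
      have := P1.is_maximal' (hz.to_sup_of_normal_right' P1.isPGroup' hn) le_sup_right
      exact ⟨⟨u * v.1, hH'⟩, this ▸ mem_sup_left (mem_zpowers _), rfl⟩
    · rw [mul_inv_rev, TwoFusionB.inv_eq_of_inv v.2.1.2, TwoFusionB.inv_eq_of_inv hu2,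
        ← mul_assoc, TwoFusionB.sq_eq_one_of_inv hu2, one_mul]
    · obtain ⟨e, heP, he⟩ := d
      show orderOf (u * e) = 2
      refine orderOf_eq_prime ?_ fun h => ?_
      · rw [TwoFusionB.inv_eq_of_inv hu2] at he
        rw [pow_two, show u * e * (u * e) = (u * e * u) * e by group, he, inv_mul_cancel]
      · have : e = u := by
          rw [mul_eq_one_iff_inv_eq, TwoFusionB.inv_eq_of_inv hu2] at h
          exact h.symm
        exact hyx (by rw [← hux, ← this]; exact hx0F ⟨e, heP⟩)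
    · have hd0 : d.1 • x0 = x0 := hx0F ⟨d.1, d.2.1⟩
      rw [mul_smul, hd0, hux]
  have hJ : ∀ u, ∀ n ∈ N, Nat.card (J (n * u * n⁻¹)) = Nat.card (J u) := by
    intro u n hn
    refine Nat.card_congr ((MulAut.conj n).toEquiv.subtypeEquiv fun d => ?_).symm
    show (d ∈ P ∧ _) ↔ (n * d * n⁻¹ ∈ P ∧ _)
    refine and_congr (mem_normalizer_iff.1 hn d) ?_
    show _ ↔ n * u * n⁻¹ * (n * d * n⁻¹) * (n * u * n⁻¹)⁻¹ = (n * d * n⁻¹)⁻¹
    rw [show n * u * n⁻¹ * (n * d * n⁻¹) * (n * u * n⁻¹)⁻¹ = n * (u * d * u⁻¹) * n⁻¹ by group,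
      show (n * d * n⁻¹)⁻¹ = n * d⁻¹ * n⁻¹ by group, mul_left_inj, mul_right_inj]
  -- one involution of `N`
  obtain ⟨y1, hy1, hy1x⟩ : ∃ y ∈ F, y ≠ x0 := by
    by_contra hcon
    push Not at hcon
    haveI : Subsingleton F :=
      ⟨fun a b => Subtype.ext ((hcon _ a.2).trans (hcon _ b.2).symm)⟩
    have := Finite.card_le_one_iff_subsingleton.2 (inferInstance : Subsingleton F)
    have := hM.three_lt
    omega
  obtain ⟨u1, hu1N, hu1, -⟩ := hswap y1 hy1 hy1x
  obtain ⟨T, hT⟩ := ((IsPGroup.of_card (n := 1) (by rw [Nat.card_zpowers, Subgroup.orderOf_mk, hu1,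
    pow_one])) : IsPGroup 2 ↥(zpowers (⟨u1, hu1N⟩ : ↥N))).exists_le_sylow
  have hu1T : (⟨u1, hu1N⟩ : ↥N) ∈ (T : Subgroup ↥N) := hT (mem_zpowers _)
  have hu1' : orderOf (⟨u1, hu1N⟩ : ↥N) = 2 := by rw [Subgroup.orderOf_mk, hu1]
  haveI : Nontrivial ↥(T : Subgroup ↥N) := ⟨⟨_, hu1T⟩, 1, fun h => by
    have h' : (⟨u1, hu1N⟩ : ↥N) = 1 := congrArg Subtype.val h
    rw [h', orderOf_one] at hu1'
    omega⟩
  obtain ⟨c, hc⟩ := exists_prime_orderOf_dvd_card' (G := ↥(center ↥(T : Subgroup ↥N))) 2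
    (PGroup.dvd_card_center T.isPGroup')
  set z := ((c : ↥(T : Subgroup ↥N)) : ↥N) with hzdef
  have hz : orderOf z = 2 := by rw [hzdef, Subgroup.orderOf_coe, Subgroup.orderOf_coe, hc]
  have hzc : ∀ s ∈ (T : Subgroup ↥N), Commute z s := fun s hs =>
    ((congrArg Subtype.val (Subgroup.mem_center_iff.1 c.2 ⟨s, hs⟩)).symm : _)
  obtain ⟨k, hk⟩ := hM.class_ppow hN T hz (c : ↥(T : Subgroup ↥N)).2 hzc
  -- all involutions of `N` are conjugate to `z`
  have hconj : ∀ v : ↥N, orderOf v = 2 → ∃ n : ↥N, n * z * n⁻¹ = v := by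
    intro v hv
    obtain ⟨T', hT'⟩ := ((IsPGroup.of_card (n := 1) (by rw [Nat.card_zpowers, hv, pow_one])) :
      IsPGroup 2 ↥(zpowers v)).exists_le_sylow
    obtain ⟨n, hn⟩ := MulAction.exists_smul_eq ↥N T' T
    have hmem : n * v * n⁻¹ ∈ (T : Subgroup ↥N) := by
      rw [← hn]
      exact ⟨v, hT' (mem_zpowers v), rfl⟩
    have heq : z = n * v * n⁻¹ := by
      refine Subtype.ext (hrank _ z.2 _ (n * v * n⁻¹).2 ?_ ?_ ?_)
      · rw [Subgroup.orderOf_coe, hz]
      · rw [Subgroup.orderOf_coe, TwoFusionB.orderOf_conj_eq, hv]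
      · exact (hzc _ hmem).map N.subtype
    exact ⟨n⁻¹, by rw [heq]; group⟩
  have hI : Nat.card {v : G // v ∈ N ∧ orderOf v = 2} = p ^ k := by
    rw [← hk]
    have e1 : {v : G // v ∈ N ∧ orderOf v = 2} ≃ {v : ↥N // orderOf v = 2} :=
      { toFun := fun v => ⟨⟨v.1, v.2.1⟩, by rw [Subgroup.orderOf_mk]; exact v.2.2⟩
        invFun := fun v => ⟨v.1.1, v.1.2, by rw [Subgroup.orderOf_coe]; exact v.2⟩
        left_inv := fun _ => rfl
        right_inv := fun _ => rfl }
    have hset : {v : ↥N | orderOf v = 2} = MulAction.orbit (ConjAct ↥N) z := by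
      ext v
      rw [Set.mem_ofPred_eq]
      constructor
      · intro hv
        obtain ⟨n, hn⟩ := hconj v hv
        exact ⟨ConjAct.toConjAct n, hn⟩
      · rintro ⟨n, rfl⟩
        show orderOf (ConjAct.ofConjAct n * z * (ConjAct.ofConjAct n)⁻¹) = 2
        rw [TwoFusionB.orderOf_conj_eq, hz]
    rw [Nat.card_congr e1]
    show Nat.card {v : ↥N | orderOf v = 2} = _
    rw [hset, Nat.card_coe_set_eq, ← index_stabilizer, ConjAct.stabilizer_eq_centralizer]
    rfl
  -- count the involutions of `N`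
  have hc' : ∀ u ∈ N, orderOf u = 2 → Nat.card (J u) = Nat.card (J (z : G)) := by
    intro u hu hu2
    obtain ⟨n, hn⟩ := hconj ⟨u, hu⟩ (by rw [Subgroup.orderOf_mk, hu2])
    have : u = (n : G) * z * (n : G)⁻¹ := (congrArg Subtype.val hn).symm
    rw [this, hJ _ _ n.2]
  let V := {v : G // v ∈ N ∧ orderOf v = 2}
  have hcount : Nat.card V = (Nat.card F - 1) * Nat.card (J (z : G)) := by
    have e : V ≃ Σ y : {y : F // y.1 ≠ x0},
        {v : G // (v ∈ N ∧ orderOf v = 2) ∧ v • x0 = y.1.1} :=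
      { toFun := fun v => ⟨⟨⟨v.1 • x0, hFN _ v.2.1 _ hx0F⟩, hmove _ v.2.1 v.2.2 _ hx0F⟩,
          ⟨v.1, v.2, rfl⟩⟩
        invFun := fun q => ⟨q.2.1, q.2.2.1⟩
        left_inv := fun v => rfl
        right_inv := by
          rintro ⟨⟨⟨y, hy⟩, hy'⟩, v, hv, hvy⟩
          exact Sigma.subtype_ext (Subtype.ext (Subtype.ext hvy)) rfl }
    rw [Nat.card_congr e, Nat.card_sigma,
      Finset.sum_congr rfl (g := fun _ => Nat.card (J (z : G))) fun y _ => ?_,
      Finset.sum_const, Finset.card_univ, smul_eq_mul]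
    · congr 1
      rw [Fintype.card_subtype_compl, ← Nat.card_eq_fintype_card]
      congr 1
      rw [Fintype.card_eq_one_iff]
      exact ⟨⟨⟨x0, hx0F⟩, rfl⟩, fun q => Subtype.ext (Subtype.ext q.2)⟩
    · obtain ⟨u, huN, hu2, hux⟩ := hswap _ y.1.2 y.2
      rw [hfib _ y.2 u huN hu2 hux, hc' u huN hu2]
  have hd : Nat.card F - 1 ∣ p ^ k := ⟨_, (hI.symm.trans hcount)⟩
  obtain ⟨j, -, hj⟩ := (Nat.dvd_prime_pow hp).1 hd
  have hF2 : Nat.card F = p ^ j + 1 := by
    have := Nat.one_le_pow j p hp.pos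
    omega
  rw [hF2] at hpF hFgt
  rcases j with _ | j
  · rw [pow_zero] at hFgt
    have := hM.three_lt
    omega
  · exact hp.not_dvd_one ((Nat.dvd_add_right (dvd_pow_self p j.succ_ne_zero)).1 hpF)

end Cfsg.Agent.PN72
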