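import Cfsg.Agent.PN72.Fusion
import Cfsg.Agent.S3756
import Cfsg.Agent.UnbalTriple.Scn3

/-!
# A strongly embedded subgroup of the minimal counterexample
-/

set_option autoImplicit false
set_option linter.style.haveILetI false

namespace Cfsg.Agent.PN72

open Subgroup

universe u

variable {G : Type u} [Group G] [Finite G] {p : ℕ} {S : Sylow 2 G} {A : Subgroup G}

/-- `O(C(a))`. -/
abbrev th (a : G) : Subgroup G := Cfsg.centralizerPPrimeCore 2 a

theorem Minimal.sol_centralizer (hM : Minimal p G) {a : G} (ha : a ≠ 1) :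
    Group.IsSolvable ↥(centralizer ({a} : Set G)) := hM.sol _ (hM.centralizer_ne_top ha)

theorem Closed.functor (hM : Minimal p G) {E : Subgroup G} (hE : Cfsg.IsElementaryAbelian 2 E)
    (h4 : 2 ^ 2 ≤ Nat.card ↥E) : Cfsg.IsSolvableSignalizerFunctor 2 E (fun a => th a) :=
  haveI : Fact (Nat.Prime 2) := ⟨Nat.prime_two⟩
  S1279.result 2 E hE h4 fun a _ ha => hM.sol_centralizer ha

omit [Finite G] in
theorem not_cyclic {E : Subgroup G} (hE : Cfsg.IsElementaryAbelian 2 E)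
    (h4 : 3 ≤ Nat.card ↥E) : ¬ IsCyclic ↥E := fun h => by
  obtain ⟨g, hg⟩ := h.exists_generator
  have h1 : Nat.card ↥E = orderOf g := by
    rw [← Nat.card_zpowers, (eq_top_iff' (zpowers g)).2 hg, Subgroup.card_top]
  have h2 : orderOf g ∣ 2 := orderOf_dvd_of_pow_eq_one (Subtype.ext (by simpa using hE.2 g g.2))
  have := Nat.le_of_dvd two_pos h2
  omega

/-- Generation of an odd-order group by the centralizers of a fours group acting on it. -/
theorem le_of_gen {E K H : Subgroup G} (hE : Cfsg.IsElementaryAbelian 2 E)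
    (h4 : 3 ≤ Nat.card ↥E) (hn : E ≤ normalizer (K : Set G)) (hodd : ¬ 2 ∣ Nat.card ↥K)
    (h : ∀ b ∈ E, b ≠ 1 → K ⊓ centralizer ({b} : Set G) ≤ H) : K ≤ H := by
  haveI := hE.1
  haveI : Fact (Nat.Prime 2) := ⟨Nat.prime_two⟩
  obtain ⟨n, hn'⟩ := IsPGroup.iff_card.1 (isPGroup_elem hE)
  have hcop : (Nat.card ↥E).Coprime (Nat.card ↥K) := by
    rw [hn']
    exact ((Nat.Prime.coprime_iff_not_dvd Nat.prime_two).2 hodd).pow_left n
  rw [← S0058.result E K (not_cyclic hE h4) hn hcop]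
  exact iSup₂_le fun b hb => h b hb.1 hb.2

theorem Closed.four_le (hc : Closed S A) {t : G} (htN : t ∈ normalizer (A : Set G))
    (ht : orderOf t = 2) : 3 ≤ Nat.card ↥(A ⊓ centralizer ({t} : Set G)) := by
  haveI := hc.elem.1
  have hm : ∀ a : ↥A, t * (a : G) * t⁻¹ ∈ A := fun a => (mem_normalizer_iff.1 htN a).1 a.2
  let φ : ↥A →* ↥A :=
    { toFun := fun a => a * ⟨_, hm a⟩
      map_one' := Subtype.ext (by show (1 : G) * (t * 1 * t⁻¹) = 1; group)
      map_mul' := fun a b => by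
        have h2 : (⟨_, hm (a * b)⟩ : ↥A) = ⟨_, hm a⟩ * ⟨_, hm b⟩ := Subtype.ext (by
          show t * ((a : G) * b) * t⁻¹ = t * (a : G) * t⁻¹ * (t * (b : G) * t⁻¹)
          group)
        show a * b * ⟨_, hm (a * b)⟩ = a * ⟨_, hm a⟩ * (b * ⟨_, hm b⟩)
        rw [h2]
        generalize (⟨_, hm a⟩ : ↥A) = x
        generalize (⟨_, hm b⟩ : ↥A) = y
        rw [mul_assoc, mul_assoc, ← mul_assoc b, ← mul_assoc x, mul_comm' b] }
  have htt : t * t = 1 := by rw [← sq, ← ht, pow_orderOf_eq_one]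
  have hti : t⁻¹ = t := inv_eq_of_mul_eq_one_right htt
  have hfix : ∀ a : ↥A, (t * (φ a : G) * t⁻¹ : G) = (φ a : G) := by
    intro a
    show t * ((a : G) * (t * a * t⁻¹)) * t⁻¹ = (a : G) * (t * a * t⁻¹)
    rw [hti, show t * ((a : G) * (t * a * t)) * t = (t * a * t) * a * (t * t) by group, htt, mul_one]
    have := elem_comm hc.elem (hm a) a.2
    rwa [hti] at this
  set C := (centralizer ({t} : Set G)).subgroupOf A with hC
  have hmemC : ∀ a : ↥A, t * (a : G) * t⁻¹ = a → a ∈ C := fun a ha =>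
    mem_centralizer_singleton_iff.2 (mul_inv_eq_iff_eq_mul.1 ha).symm
  have hr : φ.range ≤ C := by
    rintro _ ⟨a, rfl⟩
    exact hmemC _ (hfix a)
  have hk : φ.ker ≤ C := by
    intro a ha
    refine hmemC a ?_
    have h1 : (a : G) * (t * a * t⁻¹) = 1 := congrArg Subtype.val (MonoidHom.mem_ker.1 ha)
    rw [← eq_inv_of_mul_eq_one_right h1 |>.symm] at *
    exact (eq_inv_of_mul_eq_one_right h1).trans
      (inv_eq_of_mul_eq_one_right (by rw [← sq]; exact hc.elem.2 a a.2))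
  have hcard : Nat.card ↥A ≤ Nat.card ↥C * Nat.card ↥C := by
    rw [← φ.ker.card_mul_index, index_ker]
    exact Nat.mul_le_mul (Nat.le_of_dvd Nat.card_pos (card_dvd_of_le hk))
      (Nat.le_of_dvd Nat.card_pos (card_dvd_of_le hr))
  have hC' : Nat.card ↥C = Nat.card ↥(A ⊓ centralizer ({t} : Set G)) := by
    rw [hC, ← inf_subgroupOf_left]
    exact Nat.card_congr (subgroupOfEquivOfLe inf_le_left).toEquiv
  have := hc.big
  rw [← hC']
  nlinarith

theorem Closed.exists_conj (hc : Closed S A) {H : Subgroup G} (hSH : (S : Subgroup G) ≤ H)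
    {T : Subgroup G} (hT : IsPGroup 2 ↥T) (hTH : T ≤ H) :
    ∃ h ∈ H, ∀ x ∈ T, h * x * h⁻¹ ∈ (S : Subgroup G) := by
  haveI : Fact (Nat.Prime 2) := ⟨Nat.prime_two⟩
  have hT' : IsPGroup 2 ↥(T.subgroupOf H) := hT.of_equiv (subgroupOfEquivOfLe hTH).symm
  obtain ⟨Q, hQ⟩ := hT'.exists_le_sylow
  obtain ⟨h, hh⟩ := MulAction.exists_smul_eq ↥H Q (S.subtype hSH)
  refine ⟨h, h.2, fun x hx => ?_⟩
  have : h * ⟨x, hTH hx⟩ * h⁻¹ ∈ (S.subtype hSH : Sylow 2 ↥H) := by
    rw [← hh]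
    exact ⟨⟨x, hTH hx⟩, hQ hx, rfl⟩
  exact this

/-- With the centralizers of `A` inside `H`, fusion of elements of `A` into `H` stays in `H`. -/
theorem Closed.key (hc : Closed S A) {H : Subgroup G} (hNH : normalizer (A : Set G) ≤ H)
    (hCH : ∀ a ∈ A, a ≠ 1 → centralizer ({a} : Set G) ≤ H) {a g : G} (ha : a ∈ A) (ha1 : a ≠ 1)
    (hg : g * a * g⁻¹ ∈ H) : g ∈ H := by
  have hSH : (S : Subgroup G) ≤ H := (normalizer_le_of_closed hc.le hc.sc).trans hNH
  have h2 : IsPGroup 2 ↥(zpowers (g * a * g⁻¹)) := IsPGroup.of_card (n := 1) (by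
    rw [Nat.card_zpowers, show g * a * g⁻¹ = MulAut.conj g a from rfl, MulEquiv.orderOf_eq,
      orderOf_two_of_mem hc.elem ha ha1, pow_one])
  obtain ⟨h, hh, hS⟩ := hc.exists_conj hSH h2 (zpowers_le.2 hg)
  have hmem : h * g * a * (h * g)⁻¹ ∈ (S : Subgroup G) := by
    have := hS _ (mem_zpowers _)
    rwa [show h * g * a * (h * g)⁻¹ = h * (g * a * g⁻¹) * h⁻¹ by group]
  obtain ⟨n, hn, hna⟩ := hc.fus a ha _ (hc.sc.2 a ha _ hmem)
  have h1 : n⁻¹ * (h * g) ∈ centralizer ({a} : Set G) := by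
    refine mem_centralizer_singleton_iff.2 ?_
    calc n⁻¹ * (h * g) * a = n⁻¹ * (h * g * a * (h * g)⁻¹) * (h * g) := by group
      _ = n⁻¹ * (n * a * n⁻¹) * (h * g) := by rw [hna]
      _ = _ := by group
  have := mul_mem (mul_mem (inv_mem hh) (hNH hn)) (hCH a ha ha1 h1)
  rwa [show h⁻¹ * n * (n⁻¹ * (h * g)) = g by group] at this

/-- If all centralizers of `A` lie in a proper subgroup, it is strongly embedded. -/
theorem Closed.stronglyEmbedded (hM : Minimal p G) (hc : Closed S A) {H : Subgroup G}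
    (hH : H ≠ ⊤) (hNH : normalizer (A : Set G) ≤ H)
    (hCH : ∀ a ∈ A, a ≠ 1 → centralizer ({a} : Set G) ≤ H) : Cfsg.IsStronglyEmbedded H := by
  haveI : Fact (Nat.Prime 2) := ⟨Nat.prime_two⟩
  have hSH : (S : Subgroup G) ≤ H := (normalizer_le_of_closed hc.le hc.sc).trans hNH
  -- 2-groups meeting `A` lie in `H`
  have hgrow : ∀ T : Subgroup G, IsPGroup 2 ↥T → ∀ a ∈ T, a ∈ A → a ≠ 1 → T ≤ H := by
    intro T hT a haT haA ha1
    by_contra hle
    have hlt : T ⊓ H < T := lt_of_le_not_ge inf_le_left fun h => hle (h.trans inf_le_right)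
    obtain ⟨x, hx, hxD⟩ := SetLike.exists_of_lt (S4Free.exists_normalizer_gt hT hlt)
    refine hxD (Subgroup.mem_inf.2 ⟨hx.2, hc.key hNH hCH haA ha1 ?_⟩)
    exact ((mem_normalizer_iff.1 hx.1 a).1
      ⟨haT, hNH (le_normalizer haA)⟩).2
  -- centralizers of involutions of `S`
  have hS : ∀ t ∈ (S : Subgroup G), orderOf t = 2 → centralizer ({t} : Set G) ≤ H := by
    intro t htS ht
    have ht1 : t ≠ 1 := fun h => by rw [h, orderOf_one] at ht; omega
    set X := centralizer ({t} : Set G) with hX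
    haveI := hM.sol_centralizer ht1
    set E := A ⊓ X with hE
    have hEel : Cfsg.IsElementaryAbelian 2 E :=
      ⟨⟨⟨fun x y => Subtype.ext (elem_comm hc.elem x.2.1 y.2.1)⟩⟩, fun a ha => hc.elem.2 a ha.1⟩
    have hE3 : 3 ≤ Nat.card ↥E :=
      hc.four_le (normalizer_le_of_closed hc.le hc.sc htS) ht
    set O := Cfsg.pPrimeCore 2 ↥X with hO
    have hXn : X ≤ normalizer ((O.map X.subtype : Subgroup G) : Set G) :=
      S4Free.le_normalizer_map_subtype O inferInstance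
    have hOH : O.map X.subtype ≤ H := le_of_gen hEel hE3 (inf_le_right.trans hXn)
      (fun h => Thompson.not_dvd_card_pPrimeCore (p := 2) (G := ↥X)
        (h.trans (Subgroup.card_map_dvd _ _)))
      fun b hb hb1 => inf_le_right.trans (hCH b hb.1 hb1)
    obtain ⟨T, hT⟩ := ((isPGroup_elem hEel).of_equiv
      (subgroupOfEquivOfLe (inf_le_right : E ≤ X)).symm).exists_le_sylow
    set TG := (T : Subgroup ↥X).map X.subtype with hTG
    have hTG2 : IsPGroup 2 ↥TG := T.isPGroup'.map _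
    obtain ⟨a, haE, ha1⟩ : ∃ a ∈ E, a ≠ 1 := E.ne_bot_iff_exists_ne_one.1 (fun h => by
      rw [h, Subgroup.card_bot] at hE3; omega) |>.elim fun a ha => ⟨a, a.2, fun h => ha (Subtype.ext h)⟩
    have haT : a ∈ TG := ⟨⟨a, haE.2⟩, hT haE, rfl⟩
    have hTH : TG ≤ H := hgrow TG hTG2 a haT haE.1 ha1
    obtain ⟨h, hh, hhS⟩ := hc.exists_conj hSH hTG2 hTH
    -- a central element of `T` fused into `A`
    set B : Subgroup ↥(T : Subgroup ↥X) :=
      (A.comap (MulAut.conj h).toMonoidHom).comap (X.subtype.comp (T : Subgroup ↥X).subtype)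
      with hB
    have hmemB : ∀ w : ↥(T : Subgroup ↥X), w ∈ B ↔ h * ((w : ↥X) : G) * h⁻¹ ∈ A := fun w => Iff.rfl
    haveI : B.Normal := by
      refine ⟨fun w hw s => (hmemB _).2 ?_⟩
      have hsS := hhS _ (show ((s : ↥X) : G) ∈ TG from ⟨_, s.2, rfl⟩)
      have := (mem_normalizer_iff.1 (normalizer_le_of_closed hc.le hc.sc hsS) _).1 ((hmemB w).1 hw)
      simpa [mul_assoc] using this
    have hBne : B ≠ ⊥ := by
      intro hb
      have hmem : (⟨⟨a, haE.2⟩, hT haE⟩ : ↥(T : Subgroup ↥X)) ∈ B :=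
        (hmemB _).2 (hc.sc.2 a haE.1 h (hhS a haT))
      rw [hb, Subgroup.mem_bot] at hmem
      exact ha1 (congrArg (fun w : ↥(T : Subgroup ↥X) => ((w : ↥X) : G)) hmem)
    obtain ⟨w, hw, hw1⟩ : ∃ w ∈ B ⊓ center ↥(T : Subgroup ↥X), w ≠ 1 := by
      obtain ⟨w, hw⟩ := (B ⊓ center ↥(T : Subgroup ↥X)).ne_bot_iff_exists_ne_one.1
        (PGroup.inf_center_ne_bot T.isPGroup' hBne)
      exact ⟨w, w.2, fun h => hw (Subtype.ext h)⟩
    set q := QuotientGroup.mk' O with hq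
    have hchar : Cfsg.IsOfCharacteristicTwo (↥X ⧸ O) :=
      charTwo_of_core (Group.isSolvable_of_surjective (QuotientGroup.mk'_surjective O))
        Thompson.pPrimeCore_quotient_pPrimeCore
    have hcore := Thompson.pCore_le_sylow
      (T.mapSurjective (QuotientGroup.mk'_surjective O))
    set Y := (Cfsg.pCore 2 (↥X ⧸ O)).comap q with hY
    have hwY : (w : ↥X) ∈ Y := by
      refine hchar (mem_centralizer_iff.2 fun r hr => ?_)
      obtain ⟨s, hs, rfl⟩ := hcore hr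
      rw [← map_mul, ← map_mul]
      exact congrArg q (congrArg Subtype.val (Subgroup.mem_center_iff.1 hw.2 ⟨s, hs⟩))
    have hYH : ∀ y ∈ Y, (y : G) ∈ H := by
      intro y hy
      obtain ⟨s, hs, hsy⟩ := hcore hy
      have hmem : s⁻¹ * y ∈ O := QuotientGroup.eq.1 hsy
      have h3 : (y : G) = (s : G) * ((s⁻¹ * y : ↥X) : G) := by simp
      rw [h3]
      exact mul_mem (hTH ⟨s, hs, rfl⟩) (hOH ⟨_, hmem, rfl⟩)
    intro x hx
    haveI : Y.Normal := inferInstanceAs ((Cfsg.pCore 2 (↥X ⧸ O)).comap q).Normal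
    have hxw := hYH _ ((inferInstance : Y.Normal).conj_mem (w : ↥X) hwY ⟨x, hx⟩)
    have hb1 : h * ((w : ↥X) : G) * h⁻¹ ≠ 1 := fun h1 =>
      hw1 (Subtype.ext (Subtype.ext (conj_eq_one_iff.1 h1)))
    have h4 : x * h⁻¹ ∈ H := hc.key hNH hCH ((hmemB w).1 hw.1) hb1 (by
      have e : x * h⁻¹ * (h * ((w : ↥X) : G) * h⁻¹) * (x * h⁻¹)⁻¹ =
          x * ((w : ↥X) : G) * x⁻¹ := by group
      rw [e]
      exact hxw)
    have := mul_mem h4 hh
    rwa [inv_mul_cancel_right] at this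
  refine ⟨hH, even_iff_two_dvd.2 ((S.dvd_card_of_dvd_card hM.two_dvd).trans (card_dvd_of_le hSH)),
    fun g hg => ?_⟩
  rw [← Nat.not_even_iff_odd]
  intro heven
  obtain ⟨t, ht⟩ := exists_prime_orderOf_dvd_card'
    (G := ↥(H ⊓ H.map (MulAut.conj g).toMonoidHom)) 2 heven.two_dvd
  have ht2 : orderOf (t : G) = 2 := by rw [Subgroup.orderOf_coe, ht]
  obtain ⟨s, hsH, hst⟩ := t.2.2
  have hst' : g * s * g⁻¹ = (t : G) := hst
  have hs2 : orderOf s = 2 := by
    rw [← ht2, ← hst', show g * s * g⁻¹ = MulAut.conj g s from rfl, MulEquiv.orderOf_eq]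
  have hcent : ∀ v ∈ H, orderOf v = 2 → centralizer ({v} : Set G) ≤ H := by
    intro v hv hv2 x hx
    obtain ⟨h, hh, hhS⟩ := hc.exists_conj hSH (T := zpowers v)
      (IsPGroup.of_card (n := 1) (by rw [Nat.card_zpowers, hv2, pow_one])) (zpowers_le.2 hv)
    have h5 : h * x * h⁻¹ ∈ centralizer ({h * v * h⁻¹} : Set G) := by
      refine mem_centralizer_singleton_iff.2 ?_
      calc h * x * h⁻¹ * (h * v * h⁻¹) = h * (x * v) * h⁻¹ := by group
        _ = h * (v * x) * h⁻¹ := by rw [mem_centralizer_singleton_iff.1 hx]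
        _ = _ := by group
    have h6 := hS _ (hhS v (mem_zpowers v))
      (by rw [show h * v * h⁻¹ = MulAut.conj h v from rfl, MulEquiv.orderOf_eq, hv2]) h5
    have := mul_mem (mul_mem (inv_mem hh) h6) hh
    rwa [show h⁻¹ * (h * x * h⁻¹) * h = x by group] at this
  obtain ⟨h, hh, hhS⟩ := hc.exists_conj hSH (T := zpowers (t : G))
    (IsPGroup.of_card (n := 1) (by rw [Nat.card_zpowers, ht2, pow_one])) (zpowers_le.2 t.2.1)
  have htS := hhS _ (mem_zpowers (t : G))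
  have h3 := hc.four_le (normalizer_le_of_closed hc.le hc.sc htS)
    (by rw [show h * (t : G) * h⁻¹ = MulAut.conj h (t : G) from rfl, MulEquiv.orderOf_eq, ht2])
  obtain ⟨a, ha⟩ := (A ⊓ centralizer ({h * (t : G) * h⁻¹} : Set G)).ne_bot_iff_exists_ne_one.1
    (fun e => by rw [e, Subgroup.card_bot] at h3; omega)
  have ha' := mem_centralizer_singleton_iff.1 a.2.2
  have hmem : (h * g)⁻¹ * (a : G) * ((h * g)⁻¹)⁻¹ ∈ H := by
    refine hcent s hsH hs2 (mem_centralizer_singleton_iff.2 ?_)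
    have hs' : s = (h * g)⁻¹ * (h * (t : G) * h⁻¹) * (h * g) := by rw [← hst']; group
    rw [hs']
    calc (h * g)⁻¹ * (a : G) * ((h * g)⁻¹)⁻¹ * ((h * g)⁻¹ * (h * (t : G) * h⁻¹) * (h * g))
        = (h * g)⁻¹ * ((a : G) * (h * (t : G) * h⁻¹)) * (h * g) := by group
      _ = (h * g)⁻¹ * ((h * (t : G) * h⁻¹) * (a : G)) * (h * g) := by rw [ha']
      _ = _ := by group
  have h7 := hc.key hNH hCH a.2.1 (fun e => ha (Subtype.ext e)) hmem
  have := mul_mem (inv_mem hh) (inv_mem h7)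
  rw [inv_inv, show h⁻¹ * (h * g) = g by group] at this
  exact hg this

end Cfsg.Agent.PN72
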